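import Cfsg.Agent.H883.Bridge
import Cfsg.Agent.H879.TL.Adapt
import Cfsg.Agent.H879.TL.Reindex

/-!
# Maximal subgroups of `Ω₉(q)` in the residual class: the setting (helper879)

`Ctx p Q H P` : `H` is maximal in `Ω(Q)`, `dim = 9`, `char F = p` odd, `P` a residual core of `H`.
Consequences: `core`, `fixQ`, `sd`, `bot` (no scalars), `soc : P ≃* Soc P`.
-/

set_option autoImplicit false
set_option linter.unusedSectionVars false

namespace Cfsg.Agent.H879.Nine

open Matrix Cfsg Cfsg.Geo Cfsg.Agent.H915.LD Cfsg.Agent.LieClassical.OrthCore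

universe u

variable {ι : Type} [Fintype ι] [DecidableEq ι] {F : Type u} [Field F]

/-- elements of `Ω(Q)` are isometries -/
theorem isometry_of_mem {Q : (ι → F) → F} {g : GL ι F} (hg : g ∈ omegaGL Q) (v : ι → F) :
    Q ((g : Matrix ι ι F) *ᵥ v) = Q v := by
  obtain ⟨x, -, rfl⟩ := hg
  exact x.2 v v

/-- a fixed non-degenerate bilinear form gives real traces -/
theorem sd_of_form {P : Subgroup (GL ι F)} {f : (ι → F) → (ι → F) → F} (hf : IsBilinearForm f)
    (hn : IsNondegenerateForm f) (hfix : FixesForm (matrixSet P) f) : SD P := by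
  let B : (ι → F) →ₗ[F] (ι → F) →ₗ[F] F := LinearMap.mk₂ F f hf.add_left (fun c x y => hf.smul_left c x y)
    (fun x y z => hf.add_right x y z) (fun c x y => hf.smul_right c x y)
  have hB : ∀ a b, B a b = f a b := fun a b => rfl
  set M : Matrix ι ι F := LinearMap.toMatrix₂' F B with hM
  have hf' : ∀ a b, f a b = a ⬝ᵥ M *ᵥ b := by
    intro a b
    rw [← Matrix.toLinearMap₂'_apply', hM, Matrix.toLinearMap₂'_toMatrix', hB]
  have hinv : ∀ g ∈ P, (g : Matrix ι ι F)ᵀ * M * (g : Matrix ι ι F) = M := by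
    intro g hg
    have h1 : B.compl₁₂ (Matrix.toLin' (g : Matrix ι ι F)) (Matrix.toLin' (g : Matrix ι ι F)) = B := by
      apply LinearMap.ext₂
      intro a b
      rw [LinearMap.compl₁₂_apply, hB, hB, Matrix.toLin'_apply, Matrix.toLin'_apply]
      exact hfix _ ⟨g, hg, rfl⟩ a b
    have h2 := LinearMap.toMatrix₂'_compl₁₂ (R := F) B (Matrix.toLin' (g : Matrix ι ι F))
      (Matrix.toLin' (g : Matrix ι ι F))
    rw [h1, LinearMap.toMatrix'_toLin'] at h2
    exact h2.symm
  have hdet : M.det ≠ 0 := by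
    intro h0
    obtain ⟨v, hv, hv0⟩ := Matrix.exists_mulVec_eq_zero_iff.2 h0
    obtain ⟨⟨x, hx⟩, -⟩ := hn v hv
    apply hx
    rw [hf', hv0, dotProduct_zero]
  have hU : IsUnit M := (Matrix.isUnit_iff_isUnit_det M).2 hdet.isUnit
  obtain ⟨u, hu⟩ := hU
  intro g hg
  have h1 := hinv g hg
  have h3 : (g : Matrix ι ι F)ᵀ = u.val * ((g⁻¹ : GL ι F) : Matrix ι ι F) * u⁻¹.val := by
    rw [hu.symm] at h1
    have h4 : (g : Matrix ι ι F)ᵀ * u.val = u.val * ((g⁻¹ : GL ι F) : Matrix ι ι F) := by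
      have h5 : (g : Matrix ι ι F) * ((g⁻¹ : GL ι F) : Matrix ι ι F) = 1 := by
        rw [← Units.val_mul, mul_inv_cancel, Units.val_one]
      calc (g : Matrix ι ι F)ᵀ * u.val = (g : Matrix ι ι F)ᵀ * u.val * ((g : Matrix ι ι F) *
            ((g⁻¹ : GL ι F) : Matrix ι ι F)) := by rw [h5, Matrix.mul_one]
        _ = ((g : Matrix ι ι F)ᵀ * u.val * (g : Matrix ι ι F)) * ((g⁻¹ : GL ι F) : Matrix ι ι F) := by
            simp only [Matrix.mul_assoc]
        _ = _ := by rw [h1]
    rw [← h4, Matrix.mul_assoc, ← Units.val_mul, mul_inv_cancel, Units.val_one, Matrix.mul_one]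
  unfold tr
  rw [← Matrix.trace_transpose (g : Matrix ι ι F), h3, Matrix.mul_assoc, Matrix.trace_mul_comm, Matrix.mul_assoc,
    ← Units.val_mul, inv_mul_cancel, Units.val_one, Matrix.mul_one]

theorem fixesForm_polar {P : Subgroup (GL ι F)} {Q : (ι → F) → F} (h : FixesQuadForm (matrixSet P) Q) :
    FixesForm (matrixSet P) (QuadraticMap.polar Q) := by
  intro s hs v w
  unfold QuadraticMap.polar
  rw [← Matrix.mulVec_add, h s hs, h s hs, h s hs]

theorem sd_of_fixQ {P : Subgroup (GL ι F)} (h : FixQ P) : SD P := by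
  obtain ⟨Q, hQ, hP⟩ := h
  exact sd_of_form hQ.polar_bilinear hQ.nondegenerate (fixesForm_polar hP)

/-- The setting. -/
structure Ctx [Fintype F] (p : ℕ) (Q : QuadraticForm F (ι → F)) (H P : Subgroup (GL ι F)) : Prop where
  prime : p.Prime
  charP : CharP F p
  two : (2 : F) ≠ 0
  nine : Fintype.card ι = 9
  nd : Nondeg Q
  max : IsMaximalIn (omegaGL (Q : (ι → F) → F)) H
  res : IsResidualCore H P

namespace Ctx

variable [Fintype F] {p : ℕ} {Q : QuadraticForm F (ι → F)} {H P : Subgroup (GL ι F)} (c : Ctx p Q H P)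
include c

theorem core : Core P := core_of_residual c.res

theorem ne_two : p ≠ 2 := by
  rintro rfl
  have := c.charP
  exact c.two (by exact_mod_cast CharP.cast_eq_zero F 2)

theorem ndf : IsNondegenerateQuadraticForm (Q : (ι → F) → F) := H883.Bridge.isNondegenerateQuadraticForm c.nd

theorem fixes : FixesQuadForm (matrixSet P) (Q : (ι → F) → F) := by
  rintro _ ⟨g, hg, rfl⟩ v
  exact isometry_of_mem (c.max.1.le (c.res.le hg)) v

theorem fixQ : FixQ P := ⟨Q, c.ndf, c.fixes⟩

theorem sd : SD P := sd_of_fixQ c.fixQ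

theorem bot : (scalars ι F).subgroupOf P = ⊥ :=
  TL.scalars_bot_of_odd c.core c.fixQ (by rw [c.nine]; decide)

/-- `P` is simple -/
noncomputable def soc : P ≃* Soc P := TL.socEquiv c.bot

theorem finite_P : Finite P := inferInstance

end Ctx

end Cfsg.Agent.H879.Nine
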