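import Cfsg.Agent.H879.Nine.Types
import Cfsg.Agent.H887.DS.Low

/-!
# `Ω₉(q)`: `PSL_m(K)`, `m ≥ 4`, defining characteristic (helper879)
-/

set_option autoImplicit false
set_option linter.unusedSectionVars false

namespace Cfsg.Agent.H879.Nine

open Matrix Cfsg Cfsg.Geo Cfsg.Agent.H915.LD Cfsg.Agent.LieClassical.OrthCore Cfsg.Agent.H936.List12

universe u v

variable {F : Type u} [Field F]

/-- `SL_n(F)`, `n ≥ 3`, fixes no non-degenerate quadratic form -/
theorem not_fixQ_sl {n : ℕ} (hn : 3 ≤ n) : ¬ FixQ (specialLinear (Fin n) F) := by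
  rintro ⟨Q, hQ, hP⟩
  have hb := hQ.polar_bilinear
  let i : Fin n := ⟨0, by omega⟩
  have key : ∀ j : Fin n, j ≠ i → ∀ v : Fin n → F, v j ^ 2 * Q (Pi.single i 1) +
      v j * QuadraticMap.polar Q v (Pi.single i 1) = 0 := by
    intro j hj v
    let g : GL (Fin n) F := Matrix.GeneralLinearGroup.mkOfDetNeZero (1 + Matrix.single i j 1) (by
      rw [← Matrix.transvection, Matrix.det_transvection_of_ne i j hj.symm]
      exact one_ne_zero)
    have hg : g ∈ specialLinear (Fin n) F := by
      change Matrix.GeneralLinearGroup.det g = 1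
      apply Units.ext
      change (1 + Matrix.single i j (1 : F)).det = 1
      rw [← Matrix.transvection, Matrix.det_transvection_of_ne i j hj.symm]
    have h1 := hP _ ⟨g, hg, rfl⟩ v
    have h2 : (g : Matrix (Fin n) (Fin n) F) *ᵥ v = v + v j • Pi.single i 1 := by
      change (1 + Matrix.single i j (1 : F)) *ᵥ v = _
      rw [Matrix.add_mulVec, Matrix.one_mulVec]
      congr 1
      ext k
      by_cases hk : k = i
      · subst hk
        rw [Matrix.single_mulVec]
        simp
      · simp [hk, Matrix.single_mulVec]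
    simp only [h2] at h1
    have h3 : QuadraticMap.polar Q v (v j • Pi.single i 1) = Q (v + v j • Pi.single i 1) - Q v - Q (v j • Pi.single i 1) := rfl
    rw [hb.smul_right] at h3
    rw [h3, h1, hQ.smul]
    ring
  have hne : (Pi.single i 1 : Fin n → F) ≠ 0 := by
    intro h0
    have := congrFun h0 i
    rw [Pi.single_eq_same] at this
    exact one_ne_zero this
  obtain ⟨⟨x, hx⟩, -⟩ := hQ.nondegenerate _ hne
  apply hx
  have hj : ∀ j : Fin n, j ≠ i → QuadraticMap.polar Q (Pi.single j 1) (Pi.single i 1) = - Q (Pi.single i 1) := by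
    intro j hj
    have h1 := key j hj (Pi.single j 1)
    rw [Pi.single_eq_same] at h1
    linear_combination h1
  have hx' : ∀ j : Fin n, j ≠ i → ∀ x : Fin n → F, QuadraticMap.polar Q x (Pi.single i 1) = - x j * Q (Pi.single i 1) := by
    intro j hji x
    have h1 := key j hji (x + (1 - x j) • Pi.single j 1)
    have h2 : (x + (1 - x j) • (Pi.single j (1 : F) : Fin n → F)) j = 1 := by
      rw [Pi.add_apply, Pi.smul_apply, Pi.single_eq_same]
      simp
    rw [h2, hb.add_left, hb.smul_left, hj j hji] at h1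
    linear_combination h1
  have h1 := hx' ⟨1, by omega⟩ (by simp [i]) (Pi.single ⟨2, by omega⟩ 1)
  rw [hj _ (by simp [i])] at h1
  have h2 : Q (Pi.single i 1) = 0 := by
    simp at h1
    exact h1
  rw [hx' ⟨1, by omega⟩ (by simp [i]) x, h2, mul_zero]

theorem own_psl [Finite F] {p : ℕ} [Fact p.Prime] [CharP F p] {P : Subgroup (GL (Fin 9) F)} (hC : Core P) (hQ : FixQ P)
    {K : Type v} [Field K] [Finite K] [CharP K p] {m : ℕ} (hm : 4 ≤ m)
    (e : Soc P ≃* ProjectiveSpecialLinearGroup (Fin m) K) : False := by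
  have hc9 : Fintype.card (Fin 9) = 9 := Fintype.card_fin 9
  rcases (show m < 9 ∨ m = 9 ∨ 10 ≤ m by omega) with h | h | h
  · have h1 := H887.DS.dim_cases p hC (by omega) (by rw [hc9]; exact h) (by rw [hc9]; norm_num) e
    rw [hc9] at h1
    rcases h1 with ⟨h1, -⟩ | ⟨-, h1 | ⟨-, h1⟩⟩ | ⟨-, h1⟩ <;> omega
  · subst h
    have h1 := H905.Md.psl_eq (l := 8) p hC.absIrred hC.perfect (by norm_num) (by norm_num) e hC.no_subfield rfl
    rw [h1.2] at hQ
    exact not_fixQ_sl (by norm_num) hQ
  · obtain ⟨l, rfl⟩ : ∃ l, m = l + 1 := ⟨m - 1, by omega⟩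
    have h2 : (10).choose 2 ≤ (l + 1).choose 2 := Nat.choose_le_choose 2 h
    have h3 : (10).choose 2 = 45 := by decide
    have h1 := H905.Md.psl_dim p hC.absIrred hC.perfect (by omega) (by omega) e (by omega)
      (Or.inl (by rw [hc9]; omega))
    rw [hc9] at h1
    omega

end Cfsg.Agent.H879.Nine
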