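import Cfsg.Agent.H48.NatSUEq
import Cfsg.Agent.Lib.Zsigmondy

/-!
# `PSU_m(q)`, `m ≥ 5`, defining characteristic, self-dual, dimension at most 9: impossible (helper879)

`tr g⁻¹ = tr g ^ q₀` and `tr g⁻¹ = tr g` give `|F| = p^f`, `f ∣ b`, `q₀ = p^b`; a primitive prime divisor of `p^{10 b} - 1`
divides `|P|` but not `|GL_9(F)|`.
-/

set_option autoImplicit false
set_option linter.unusedSectionVars false

namespace Cfsg.Agent.H879.Nine

open Matrix Cfsg Cfsg.Geo Cfsg.Agent.H915.LD Cfsg.Agent.H48.NatSU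

universe u v

variable {F : Type u} [Field F] [Fintype F]

/-- a prime `r` with `ord_r p = d` does not divide `|GL_n(p^f)|` if `f n < d` -/
theorem not_dvd_card_GL {p r f n d : ℕ} (hr : r.Prime) (ho : orderOf (p : ZMod r) = d) (hrp : ¬ r ∣ p) (hf : 0 < f)
    (hF : Fintype.card F = p ^ f) (hlt : f * n < d) : ¬ r ∣ Nat.card (GL (Fin n) F) := by
  have := Fact.mk hr
  rw [Matrix.card_GL_field, hF]
  intro h
  rw [Prime.dvd_finset_prod_iff hr.prime] at h
  obtain ⟨i, -, hi⟩ := h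
  have hin := i.2
  have h1 : (p ^ f) ^ n - (p ^ f) ^ (i : ℕ) = (p ^ f) ^ (i : ℕ) * ((p ^ f) ^ (n - i) - 1) := by
    rw [Nat.mul_sub, mul_one, ← pow_add]
    congr 2
    omega
  rw [h1, hr.dvd_mul] at hi
  rcases hi with hi | hi
  · exact hrp (hr.dvd_of_dvd_pow (hr.dvd_of_dvd_pow hi))
  · have hp0 : 0 < p := by
      rcases Nat.eq_zero_or_pos p with rfl | h
      · exact absurd (dvd_zero r) hrp
      · exact h
    rw [← pow_mul] at hi
    have h2 : (p : ZMod r) ^ (f * (n - i)) = 1 := by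
      have h3 : ((p ^ (f * (n - i)) - 1 : ℕ) : ZMod r) = 0 := (ZMod.natCast_eq_zero_iff _ _).2 hi
      rw [Nat.cast_sub (Nat.one_le_pow _ _ hp0), sub_eq_zero] at h3
      push_cast at h3
      exact h3
    have h4 := orderOf_dvd_of_pow_eq_one h2
    rw [ho] at h4
    have h5 := Nat.le_of_dvd (Nat.mul_pos hf (by omega)) h4
    have h6 : f * (n - i) ≤ f * n := Nat.mul_le_mul_left f (by omega)
    omega

theorem own_psu {p : ℕ} [hp : Fact p.Prime] [CharP F p] {n : ℕ} (hn9 : n ≤ 9) {P : Subgroup (GL (Fin n) F)} (hC : Core P)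
    (hsd : SD P) {K : Type} [Field K] [Fintype K] [CharP K p] {m q : ℕ} (hm : 5 ≤ m) (hK : Fintype.card K = q ^ 2)
    (e : Soc P ≃* PSU m K q) : False := by
  have hcj := psu_cj hC p hK (by omega) (by omega) e
  obtain ⟨p', b, hp', hch, hq, hb⟩ := LieClassical.HermBasic.exists_prime_pow hK
  obtain rfl : p' = p := CharP.eq K hch ‹_›
  have hfr : Fr P (p' ^ b) := by rw [← hq]; exact Fr.of_sd_cj hsd hcj
  obtain ⟨f, hf, hF⟩ := FiniteField.card F p'
  -- `f ≤ b`
  have hfb : (f : ℕ) ≤ b := by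
    have h1 := hC.card_le p' hb.ne' hfr
    rw [hF] at h1
    exact (Nat.pow_le_pow_iff_right hp'.one_lt).1 h1
  obtain ⟨r, hr, ho⟩ := Cfsg.Agent.Lib.Zsigmondy.exists_prime_orderOf (a := p') (n := 10 * b) hp'.two_le (by omega)
    (fun h => by omega) (fun h => by omega)
  have := Fact.mk hr
  have hrp : ¬ r ∣ p' := by
    intro h
    have h1 : (p' : ZMod r) = 0 := (ZMod.natCast_eq_zero_iff _ _).2 h
    rw [h1, orderOf_zero] at ho
    omega
  have h1 : ¬ r ∣ Nat.card (GL (Fin n) F) :=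
    not_dvd_card_GL hr ho hrp f.pos hF (by
      calc (f : ℕ) * n ≤ b * 9 := Nat.mul_le_mul hfb hn9
        _ < 10 * b := by omega)
  apply h1
  obtain ⟨φ, hφ, hk, -⟩ := psu_cover p' hK (by omega) (by omega) hC.perfect e
  have hfin : Finite (SU m K q) := inferInstance
  have h2 : Nat.card (SU m K q) = Nat.card φ.ker * Nat.card P := by
    rw [Subgroup.card_eq_card_quotient_mul_card_subgroup φ.ker,
      Nat.card_congr (QuotientGroup.quotientKerEquivRange φ).toEquiv, hφ, mul_comm]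
  have hq2 : 2 ≤ q := two_le_of_sq hK
  -- orders
  have hord : ∀ k, r ∣ p' ^ k - 1 → 10 * b ∣ k := by
    intro k hk
    have h3 : ((p' ^ k - 1 : ℕ) : ZMod r) = 0 := (ZMod.natCast_eq_zero_iff _ _).2 hk
    rw [Nat.cast_sub (Nat.one_le_pow _ _ hp'.pos), sub_eq_zero] at h3
    push_cast at h3
    have h4 := orderOf_dvd_of_pow_eq_one h3
    rwa [ho] at h4
  have h10 : r ∣ q ^ 10 - 1 := by
    have h3 : (p' : ZMod r) ^ (10 * b) = 1 := by rw [← ho]; exact pow_orderOf_eq_one _
    have h4 : ((p' ^ (10 * b) - 1 : ℕ) : ZMod r) = 0 := by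
      rw [Nat.cast_sub (Nat.one_le_pow _ _ hp'.pos), sub_eq_zero]
      push_cast
      exact h3
    have h5 := (ZMod.natCast_eq_zero_iff _ _).1 h4
    rw [hq, ← pow_mul, mul_comm b 10]
    exact h5
  have h5 : r ∣ q ^ 5 + 1 := by
    have h3 : q ^ 10 - 1 = (q ^ 5 + 1) * (q ^ 5 - 1) := by
      have h4 := Nat.sq_sub_sq (q ^ 5) 1
      rw [← pow_mul, one_pow] at h4
      exact h4
    rw [h3, hr.dvd_mul] at h10
    rcases h10 with h10 | h10
    · exact h10
    · exfalso
      rw [hq, ← pow_mul] at h10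
      have := Nat.le_of_dvd (by omega) (hord _ h10)
      omega
  have hkc : ¬ r ∣ Nat.card φ.ker := by
    intro hd
    have h4 : Nat.card φ.ker ∣ q + 1 := by
      refine (Subgroup.card_dvd_of_le hk).trans ?_
      rw [Cfsg.Agent.S0279.result hK m (by omega)]
      exact Nat.gcd_dvd_right _ _
    have h6 : r ∣ q ^ 2 - 1 := by
      have h7 := Nat.sq_sub_sq q 1
      rw [one_pow] at h7
      rw [h7]
      exact (hd.trans h4).mul_right _
    rw [hq, ← pow_mul] at h6
    have := Nat.le_of_dvd (by omega) (hord _ h6)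
    omega
  have h6 : r ∣ Nat.card (SU m K q) := H948.UProd.dvd_card_SU hK (i := 4) (by omega) (by omega) (by
    unfold H948.UProd.ph
    rw [if_pos (by decide)]
    exact h5)
  rw [h2, hr.dvd_mul] at h6
  exact (h6.resolve_left hkc).trans (Subgroup.card_subgroup_dvd_card P)

end Cfsg.Agent.H879.Nine
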