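import Cfsg.Agent.H879.Nine.A7Nine

/-!
# `A₇` has no orthogonal irreducible representation of dimension `9`, characteristic `7` (helper879)
-/

set_option autoImplicit false
set_option linter.unusedSectionVars false
set_option maxRecDepth 10000
set_option maxHeartbeats 1000000

namespace Cfsg.Agent.H879.Nine.A7

open Module Equiv Cfsg.Agent.H637.JW Cfsg.Agent.H882.Dim Cfsg.Agent.H882.Sc

section general

variable {K : Type*} [Field K] {V : Type*} [AddCommGroup V] [Module K V] [FiniteDimensional K V]
  {G : Type*} [Group G] {σ : G →* Module.End K V}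

/-- the subspace of dimension at most `dim V^y` -/
theorem le_y (h2 : (2 : K) ≠ 0) {a b y : G} (haa : a * a = 1) (hbb : b * b = 1) (hab : a * b = b * a)
    (hyy : y * y * y = 1) (hya : y * a = b * y) (hyb : y * b = a * b * y) :
    finrank K (Fix σ a ⊓ An σ b : Submodule K V) ≤ finrank K (Fix σ y) := by
  have hya' : ∀ v, σ y (σ a v) = σ b (σ y v) := fun v => by rw [← mul_apply', hya, mul_apply']
  have hyb' : ∀ v, σ y (σ b v) = σ a (σ b (σ y v)) := fun v => by
    rw [← mul_apply', hyb, mul_apply', mul_apply']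
  have hab' : ∀ v, σ a (σ b v) = σ b (σ a v) := fun v => by rw [← mul_apply', hab, mul_apply']
  have haa' : ∀ v, σ a (σ a v) = v := fun v => by rw [← mul_apply', haa, act_one]
  have hbb' : ∀ v, σ b (σ b v) = v := fun v => by rw [← mul_apply', hbb, act_one]
  refine le_of_inj (1 + σ y + σ y * σ y) _ _ (fun v _ => ?_) (fun v hv h0 => ?_)
  · rw [mem_Fix, LinearMap.add_apply, LinearMap.add_apply, Module.End.one_apply, Module.End.mul_apply, map_add, map_add,
      show σ y (σ y (σ y v)) = v by rw [← mul_apply', ← mul_apply', hyy, act_one]]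
    abel
  · rw [LinearMap.add_apply, LinearMap.add_apply, Module.End.one_apply, Module.End.mul_apply] at h0
    have h1 := mem_Fix.1 hv.1
    have h3 := mem_An.1 hv.2
    -- the action of `b` and `a` on `y v`
    have h4 : σ b (σ y v) = σ y v := by rw [← hya', h1]
    have h5 : σ a (σ y v) = -σ y v := by
      have := hyb' v
      rw [h4, h3, map_neg] at this
      exact this.symm
    have h6 : σ b (σ y (σ y v)) = -σ y (σ y v) := by rw [← hya', h5, map_neg]
    have h7 : σ a (σ y (σ y v)) = -σ y (σ y v) := by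
      have := hyb' (σ y v)
      rw [h4, h6, map_neg] at this
      rw [← neg_eq_iff_eq_neg]
      exact this.symm
    have h8 := congrArg (σ a) h0
    rw [map_add, map_add, map_zero, h1, h5, h7] at h8
    have h9 : (2 : K) • v = 0 := by
      have : (2 : K) • v = (v + σ y v + σ y (σ y v)) + (v + -σ y v + -σ y (σ y v)) := by module
      rw [this, h0, h8, add_zero]
    exact (smul_eq_zero.1 h9).resolve_left h2

/-- the four-group on an invariant subspace -/
theorem three_k (h2 : (2 : K) ≠ 0) {a b y : G} (haa : a * a = 1) (hbb : b * b = 1) (hab : a * b = b * a)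
    (hya : y * a = b * y) (hyb : y * b = a * b * y) (U : Submodule K V) (ha : ∀ v ∈ U, σ a v ∈ U)
    (hb : ∀ v ∈ U, σ b v ∈ U) (hy : ∀ v ∈ U, σ y v ∈ U) :
    ∃ k, finrank K U = finrank K (U ⊓ Fix σ a ⊓ Fix σ b : Submodule K V) + 3 * k := by
  have hya' : ∀ v, σ y (σ a v) = σ b (σ y v) := fun v => by rw [← mul_apply', hya, mul_apply']
  have hyb' : ∀ v, σ y (σ b v) = σ a (σ b (σ y v)) := fun v => by
    rw [← mul_apply', hyb, mul_apply', mul_apply']
  have hab' : ∀ v, σ a (σ b v) = σ b (σ a v) := fun v => by rw [← mul_apply', hab, mul_apply']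
  have haa' : ∀ v, σ a (σ a v) = v := fun v => by rw [← mul_apply', haa, act_one]
  have hbb' : ∀ v, σ b (σ b v) = v := fun v => by rw [← mul_apply', hbb, act_one]
  have s1 := split_two (σ := σ) h2 haa U ha
  have s2 := split_two (σ := σ) h2 hbb (U ⊓ Fix σ a) (fun v hv => ⟨hb v hv.1, by
    have := mem_Fix.1 hv.2
    change _ ∈ Fix σ a
    rw [mem_Fix, hab', this]⟩)
  have s3 := split_two (σ := σ) h2 hbb (U ⊓ An σ a) (fun v hv => ⟨hb v hv.1, by
    have := mem_An.1 hv.2
    change _ ∈ An σ a
    rw [mem_An, hab', this, map_neg]⟩)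
  have l1 : finrank K (U ⊓ Fix σ a ⊓ An σ b : Submodule K V) ≤ finrank K (U ⊓ An σ a ⊓ Fix σ b : Submodule K V) := by
    refine finrank_le_of_map (σ := σ) y fun v hv => ?_
    have h1 := mem_Fix.1 hv.1.2
    have h3 := mem_An.1 hv.2
    have h4 : σ b (σ y v) = σ y v := by rw [← hya', h1]
    refine ⟨⟨hy v hv.1.1, ?_⟩, mem_Fix.2 h4⟩
    change _ ∈ An σ a
    have := hyb' v
    rw [h4, h3, map_neg] at this
    exact mem_An.2 this.symm
  have l2 : finrank K (U ⊓ An σ a ⊓ Fix σ b : Submodule K V) ≤ finrank K (U ⊓ An σ a ⊓ An σ b : Submodule K V) := by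
    refine finrank_le_of_map (σ := σ) y fun v hv => ?_
    have h1 := mem_An.1 hv.1.2
    have h3 := mem_Fix.1 hv.2
    have h4 : σ b (σ y v) = -σ y v := by rw [← hya', h1, map_neg]
    refine ⟨⟨hy v hv.1.1, ?_⟩, mem_An.2 h4⟩
    change _ ∈ An σ a
    have := hyb' v
    rw [h4, h3, map_neg] at this
    rw [mem_An, ← neg_eq_iff_eq_neg]
    exact this.symm
  have l3 : finrank K (U ⊓ An σ a ⊓ An σ b : Submodule K V) ≤ finrank K (U ⊓ Fix σ a ⊓ An σ b : Submodule K V) := by
    refine finrank_le_of_map (σ := σ) y fun v hv => ?_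
    have h1 := mem_An.1 hv.1.2
    have h3 := mem_An.1 hv.2
    have h4 : σ b (σ y v) = -σ y v := by rw [← hya', h1, map_neg]
    refine ⟨⟨hy v hv.1.1, ?_⟩, mem_An.2 h4⟩
    change _ ∈ Fix σ a
    have := hyb' v
    rw [h4, h3, map_neg, map_neg] at this
    exact mem_Fix.2 (neg_injective this.symm)
  exact ⟨finrank K (U ⊓ Fix σ a ⊓ An σ b : Submodule K V), by omega⟩

/-- the fixed vectors of the element `s` of order three commuting with the four-group `⟨a, b⟩` are fixed by `⟨a, b⟩` -/
theorem fix_four (h2 : (2 : K) ≠ 0) (h3 : (3 : K) ≠ 0) {a b y s t : G} (haa : a * a = 1) (hbb : b * b = 1)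
    (hab : a * b = b * a) (hya : y * a = b * y) (hyb : y * b = a * b * y) (hs : s * s * s = 1) (hsa : a * s = s * a)
    (hsb : b * s = s * b) (hsy : y * s = s * y) (htt : t * t = 1) (hts : t * s = s * s * t) (hta : t * a = a * t)
    (htb : t * b = a * b * t) (hX : finrank K (Fix σ a ⊓ Fix σ b : Submodule K V) = 3) (hU : finrank K (Fix σ s) = 3)
    {v : V} (hv : σ s v = v) : σ a v = v ∧ σ b v = v := by
  obtain ⟨k, hk⟩ := three_k (σ := σ) h2 haa hbb hab hya hyb (Fix σ s) (fun v hv => fix_le_of_comm hsa hv)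
    (fun v hv => fix_le_of_comm hsb hv) (fun v hv => fix_le_of_comm hsy hv)
  set X : Submodule K V := Fix σ a ⊓ Fix σ b with hXd
  have e0 : Fix σ s ⊓ Fix σ a ⊓ Fix σ b = X ⊓ Fix σ s := by
    rw [hXd, inf_assoc, inf_comm]
  have Xs : ∀ v ∈ X, σ s v ∈ X := fun v hv => ⟨fix_le_of_comm hsa.symm hv.1, fix_le_of_comm hsb.symm hv.2⟩
  have Xt : ∀ v ∈ X, σ t v ∈ X := by
    intro v hv
    refine ⟨fix_le_of_comm hta hv.1, ?_⟩
    change _ ∈ Fix σ b
    have h1 := mem_Fix.1 hv.1
    have h4 := mem_Fix.1 hv.2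
    have h5 : b * t = t * (a * b) := by
      have h6 : t * (a * b) = a * (a * b * t) := by rw [← mul_assoc, hta, mul_assoc, htb]
      rw [h6, ← mul_assoc, ← mul_assoc, haa, one_mul]
    rw [mem_Fix, ← mul_apply', h5, mul_apply', mul_apply', h4, h1]
  have s1 := split_three (σ := σ) h3 hs X (fun v hv => X.add_mem (X.add_mem hv (Xs v hv)) (Xs _ (Xs v hv)))
  have s2 := half_three (σ := σ) h2 h3 htt hts hs (X ⊓ Om σ s) (fun v hv => ⟨Xt v hv.1, om_of_inv hs hts hv.2⟩)
    (fun v hv => ⟨Xs v hv.1, om_self hv.2⟩) (fun v hv => hv.2)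
  rw [hX] at s1
  rw [hU, e0] at hk
  have h4 : finrank K (X ⊓ Fix σ s : Submodule K V) = 3 := by omega
  have h5 : X ⊓ Fix σ s = Fix σ s := Submodule.eq_of_le_of_finrank_eq inf_le_right (by rw [h4, hU])
  have h6 : v ∈ X ⊓ Fix σ s := by rw [h5]; exact mem_Fix.2 hv
  exact ⟨mem_Fix.1 h6.1.1, mem_Fix.1 h6.1.2⟩

end general

open Cfsg.Agent.H923.Ten.A7 (A e2 c2 c3 c4 c5 c6 top_of_c)
open Cfsg.Agent.H882.Sc.A7

variable {K : Type*} [Field K] {V : Type*} [AddCommGroup V] [Module K V] [FiniteDimensional K V]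
  {σ : A →* Module.End K V}

/-- involutions with product `d` -/
def t5 : A := e2 1 4 5 6
def t5' : A := e2 4 5 6 3
/-- the four-group on `{0, 1, 2, 6}` -/
def va : A := e2 0 1 2 6
def vb : A := e2 0 2 1 6
/-- the four-group on `{3, 4, 5, 6}` -/
def wa : A := e2 3 4 5 6
def wb : A := e2 3 5 4 6

/-- **`A₇` in dimension `9`, characteristic `7`.** -/
theorem seven [IsAlgClosed K] (h7 : (7 : K) = 0) (hI : Irr σ) {B : V →ₗ[K] V →ₗ[K] K}
    (hB : Form σ B) (hV : finrank K V = 9) : False := by
  have : Fact (Nat.Prime 7) := ⟨by norm_num⟩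
  have : IsSimpleGroup A := alternatingGroup.isSimpleGroup (by simp)
  have hch : CharP K 7 := charP_of_zero (by norm_num) (by exact_mod_cast h7)
  have : Fact (Nat.Prime 5) := ⟨by norm_num⟩
  have h2 : (2 : K) ≠ 0 := by
    intro h0
    have : (1 : K) = 0 := by
      have : (1 : K) = 7 - 2 * 3 := by norm_num
      rw [this, h7, h0, zero_mul, sub_zero]
    exact one_ne_zero this
  have h3 : (3 : K) ≠ 0 := by
    intro h0
    have : (1 : K) = 0 := by
      have : (1 : K) = 7 - 2 * 3 := by norm_num
      rw [this, h7, h0, mul_zero, sub_zero]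
    exact one_ne_zero this
  have h5 : ((5 : ℕ) : K) ≠ 0 := by
    intro h0
    have h0' : (5 : K) = 0 := by exact_mod_cast h0
    have : (1 : K) = 0 := by
      have : (1 : K) = 3 * 5 - 2 * 7 := by norm_num
      rw [this, h7, h0', mul_zero, mul_zero, sub_zero]
    exact one_ne_zero this
  have k1 := klein (σ := σ) h2 (a := z) (b := b1) (by decide +kernel) (by decide +kernel) (by decide +kernel) rfl
    (fix_conj (k := y1) (by decide +kernel)) (fix_conj (k := y1 * y1) (by decide +kernel))
  rw [hV] at k1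
  obtain ⟨m, hm⟩ := eig hB (c := d) (y := yd) (r := 5) (k := 2) h5 (by decide +kernel) (by decide +kernel) res5
  obtain ⟨m', hm'⟩ := eig hB (c := x * w) (y := yxw) (r := 5) (k := 2) h5 (by decide +kernel) (by decide +kernel)
    res5
  have l1 := hI.fix_lt (g := d) (by decide +kernel)
  have l2 := hI.fix_lt (g := x * w) (by decide +kernel)
  have l3 := hI.fix_lt (g := z) (by decide +kernel)
  have l4 := hI.fix_lt (g := p1) (by decide +kernel)
  have c1 := le_of_char (σ := σ) (p := 7) (c := z * d) (by decide +kernel)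
  have s1 := hI.scott gen_zd
  have s2 := hI.scott gen_xw
  obtain ⟨n1, hn1⟩ := even_of_inv (σ := σ) h2 h3 (a := t1) (y := p1) (by decide +kernel) (by decide +kernel)
    (by decide +kernel)
  obtain ⟨n2, hn2⟩ := even_of_inv (σ := σ) h2 h3 (a := t2) (y := x) (by decide +kernel) (by decide +kernel)
    (by decide +kernel)
  have e9 := nine' (σ := σ) h3 (x := p1) (y := p2) (by decide +kernel) (by decide +kernel) (by decide +kernel)
  have q1 : finrank K (Fix σ p2) = finrank K (Fix σ p1) := fix_conj (k := e2 0 3 1 4 * e2 4 2 2 5) (by decide +kernel)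
  have q2 : finrank K (Fix σ (p1 * p2)) = finrank K (Fix σ x) := by
    rw [show p1 * p2 = x by decide +kernel]
  have q3 : finrank K (Fix σ (p1 * p1 * p2)) = finrank K (Fix σ x) :=
    fix_conj (k := e2 0 3 1 4 * e2 4 2 2 5) (by decide +kernel)
  have q6 : finrank K (Fix σ w) = finrank K (Fix σ x) := fix_conj (k := e2 1 3 3 4 * e2 4 6 6 2) (by decide +kernel)
  have hcase : finrank K (Fix σ z) = 3 ∨ finrank K (Fix σ z) = 5 := by omega
  rcases hcase with hz | hz
  · -- the involution has trace `-3`
    have hd : finrank K (Fix σ d) = 1 := by omega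
    have r1 : finrank K (Fix σ t5) = finrank K (Fix σ z) := fix_conj (k := e2 0 1 1 4 * e2 2 5 3 6) (by decide +kernel)
    have r2 : finrank K (Fix σ t5') = finrank K (Fix σ z) := fix_conj (k := e2 0 3 3 5 * e2 1 6 2 4) (by decide +kernel)
    have u1 := split_two (σ := σ) h2 (a := t5) (by decide +kernel) (⊤ : Submodule K V) (fun _ _ => trivial)
    have u2 := split_two (σ := σ) h2 (a := t5') (by decide +kernel) (⊤ : Submodule K V) (fun _ _ => trivial)
    rw [top_inf_eq, top_inf_eq, finrank_top] at u1 u2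
    have u3 := Submodule.finrank_sup_add_finrank_inf_eq (An σ t5) (An σ t5' : Submodule K V)
    have u4 : finrank K (An σ t5 ⊔ An σ t5' : Submodule K V) ≤ finrank K V := Submodule.finrank_le _
    have u5 : finrank K (An σ t5 ⊓ An σ t5' : Submodule K V) ≤ finrank K (Fix σ d) := by
      refine Submodule.finrank_mono fun v hv => ?_
      have g1 := mem_An.1 hv.1
      have g2 := mem_An.1 hv.2
      rw [mem_Fix, show d = t5 * t5' by decide +kernel, mul_apply', g2, map_neg, g1, neg_neg]
    omega
  · -- the involution has trace `1`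
    have hX : finrank K (Fix σ z ⊓ Fix σ b1 : Submodule K V) = 3 := by omega
    have s3 := split_two (σ := σ) h2 (a := b1) (by decide +kernel) (Fix σ z) (fun v hv => fix_le_of_comm (by decide +kernel) hv)
    have g1 := le_y (σ := σ) h2 (a := z) (b := b1) (y := e2 1 2 2 3 * e2 4 5 5 6) (by decide +kernel) (by decide +kernel)
      (by decide +kernel) (by decide +kernel) (by decide +kernel) (by decide +kernel)
    have g2 : finrank K (Fix σ (e2 1 2 2 3 * e2 4 5 5 6 : A)) = finrank K (Fix σ x) :=
      fix_conj (k := e2 0 3 3 6) (by decide +kernel)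
    have hx : finrank K (Fix σ x) = 3 := by omega
    have hp : finrank K (Fix σ p1) = 3 ∧ finrank K (Fix σ p1 ⊓ Fix σ p2 : Submodule K V) = 1 := by omega
    have hX1 : finrank K (Fix σ va ⊓ Fix σ vb : Submodule K V) = 3 := by
      have := klein (σ := σ) h2 (a := va) (b := vb) (by decide +kernel) (by decide +kernel) (by decide +kernel)
        (f := finrank K (Fix σ z)) (fix_conj (k := e2 3 6 6 4) (by decide +kernel))
        (fix_conj (k := e2 1 2 3 6) (by decide +kernel)) (fix_conj (k := e2 1 6 6 3) (by decide +kernel))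
      omega
    have hX2 : finrank K (Fix σ wa ⊓ Fix σ wb : Submodule K V) = 3 := by
      have := klein (σ := σ) h2 (a := wa) (b := wb) (by decide +kernel) (by decide +kernel) (by decide +kernel)
        (f := finrank K (Fix σ z)) (fix_conj (k := e2 0 3 3 6 * e2 1 4 2 5) (by decide +kernel))
        (fix_conj (k := e2 0 3 3 6 * e2 1 5 2 4) (by decide +kernel))
        (fix_conj (k := e2 0 3 3 5 * e2 1 6 2 4) (by decide +kernel))
      omega
    obtain ⟨v, hv, hv0⟩ : ∃ v ∈ (Fix σ p1 ⊓ Fix σ p2 : Submodule K V), v ≠ 0 := by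
      apply Submodule.exists_mem_ne_zero_of_ne_bot
      intro h0
      have := hp.2
      rw [h0, finrank_bot] at this
      omega
    have f1 := mem_Fix.1 hv.1
    have f2 := mem_Fix.1 hv.2
    have f3 := fix_four (σ := σ) h2 h3 (a := va) (b := vb) (y := e2 1 2 2 6) (s := p2) (t := e2 0 1 3 4)
      (by decide +kernel) (by decide +kernel) (by decide +kernel) (by decide +kernel) (by decide +kernel)
      (by decide +kernel) (by decide +kernel) (by decide +kernel) (by decide +kernel) (by decide +kernel)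
      (by decide +kernel) (by decide +kernel) (by decide +kernel) hX1 (by omega) f2
    have f4 := fix_four (σ := σ) h2 h3 (a := wa) (b := wb) (y := e2 4 5 5 6) (s := p1) (t := e2 3 4 0 1)
      (by decide +kernel) (by decide +kernel) (by decide +kernel) (by decide +kernel) (by decide +kernel)
      (by decide +kernel) (by decide +kernel) (by decide +kernel) (by decide +kernel) (by decide +kernel)
      (by decide +kernel) (by decide +kernel) (by decide +kernel) hX2 (by omega) f1
    apply hv0
    refine hI.no_fixed_gen (S := {c2, c3, c4, c5, c6}) (top_of_c _ (Subgroup.subset_closure (by simp))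
      (Subgroup.subset_closure (by simp)) (Subgroup.subset_closure (by simp)) (Subgroup.subset_closure (by simp))
      (Subgroup.subset_closure (by simp))) fun g hg => ?_
    have k6 : σ c6 v = v := by
      rw [show c6 = p1 * p1 * vb by decide +kernel]
      simp only [mul_apply', f1, f3.2]
    rcases hg with rfl | rfl | rfl | rfl | rfl
    · exact f1
    · rw [show c3 = wa * wb * c6 * (wa * wb) by decide +kernel]
      simp only [mul_apply', k6, f4.1, f4.2]
    · rw [show c4 = wb * c6 * wb by decide +kernel]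
      simp only [mul_apply', k6, f4.2]
    · rw [show c5 = wa * c6 * wa by decide +kernel]
      simp only [mul_apply', k6, f4.1]
    · exact k6

section core

open Matrix Cfsg Cfsg.Geo Cfsg.Agent.H915.LD

variable {F : Type*} [Field F] {ι : Type} [Fintype ι] [DecidableEq ι] {P : Subgroup (GL ι F)}

/-- **`A₇` in orthogonal groups of dimension `9`.** -/
theorem a7_nine (hC : Core P) (h2 : (2 : F) ≠ 0) (hQ : FixQ P) (hn : Fintype.card ι = 9)
    (e : Soc P ≃* alternatingGroup (Fin 7)) : False := by
  have hbot := H879.TL.scalars_bot_of_odd hC hQ (by rw [hn]; decide)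
  let e' := (H879.TL.socEquiv hbot).trans e
  obtain ⟨B, hB⟩ := form_of_fixQ h2 hQ e'
  by_cases h7 : (7 : AlgebraicClosure F) = 0
  · exact seven h7 (irr_of_core hC e') hB (H879.TL.finrank_clo.trans hn)
  · exact nine (H879.TL.two_ne_clo h2) h7 (irr_of_core hC e') hB (H879.TL.finrank_clo.trans hn)

end core

end Cfsg.Agent.H879.Nine.A7
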