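import Cfsg.Agent.H879.Nine.MEleven
import Cfsg.Agent.H936.List12b
import Cfsg.Agent.H933.JOneTen
import Cfsg.Agent.H95.JT.Core
import Cfsg.Agent.H921.SporMore
import Cfsg.Agent.H921.SporCore
import Cfsg.Agent.H921.SporSuz
import Cfsg.Agent.H921.SporJ2

/-!
# `Ω₉(q)`: sporadic groups (helper879)
-/

set_option autoImplicit false
set_option linter.unusedSectionVars false

namespace Cfsg.Agent.H879.Nine

open Matrix Cfsg Cfsg.Geo Cfsg.Agent.H915.LD Cfsg.Agent.H936.List12 Cfsg.Agent.H921.Spor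

universe u v

variable {F : Type u} [Field F] [Finite F] {P : Subgroup (GL (Fin 9) F)}

theorem pr_two (hC : Core P) {T : Type v} [Group T] (e : Soc P ≃* T) : H912.Bd.PR F 9 2 T :=
  hC.pr e (core_coprime hC Nat.prime_two (by rw [Fintype.card_fin]; decide))

/-- **Sporadic groups in dimension nine, characteristic odd, self-dual.** -/
theorem row_spor (p : ℕ) [hp : Fact p.Prime] [CharP F p] (hC : Core P) (h2 : (2 : F) ≠ 0) (hsd : SD P)
    (hbot : (scalars (Fin 9) F).subgroupOf P = ⊥) (h : SporC (Soc P)) : p = 11 ∧ Cfsg.Spor.IsoM11 (Soc P) := by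
  have h2' : ((2 : ℕ) : F) ≠ 0 := by exact_mod_cast h2
  rcases h with h | h | h | h | h | h | h | h | h
  · exact ⟨ME.m11_eleven p hC hsd (by simp) h, h⟩
  · exact (ME.m12_nine p hbot hsd (by simp) h).elim
  · obtain ⟨e⟩ := h
    have := M24.M22_two.bd Nat.prime_two h2' 9 (pr_two hC e)
    omega
  · obtain ⟨e⟩ := h
    have := M24.M23_two.bd Nat.prime_two h2' 9 (pr_two hC e)
    omega
  · obtain ⟨e⟩ := h
    have := M24.M24_two.bd Nat.prime_two h2' 9 (pr_two hC e)
    omega
  · exact (H933.JOneTen.j1_false' hC h (by simp) (by simp)).elim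
  · obtain ⟨e⟩ := h
    have := J2.J2_two.bd Nat.prime_two h2' 9 (pr_two hC e)
    omega
  · have := H95.JT.j3 p hC h (by simp)
    exfalso
    apply h2
    have h3 : ((p : ℕ) : F) = 0 := CharP.cast_eq_zero F p
    rw [this.1] at h3
    exact_mod_cast h3
  · obtain ⟨e⟩ := h
    have := Suz.Suz_two.bd Nat.prime_two h2' 9 (pr_two hC e)
    omega

end Cfsg.Agent.H879.Nine
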