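import Cfsg.Agent.H879.Nine.Types
import Cfsg.Agent.H937.T2Rep
import Cfsg.Agent.H916.SpSixK
import Cfsg.Agent.H175.BdSU
import Cfsg.Agent.H875.SteinDef

/-!
# `Ω₉(q)`: short rows (helper879)

`A₅`, `L₂(7)`, `L₂(11)`, `L₂(13)`, `Sp₆(2)`, `U₄(3)`.
-/

set_option autoImplicit false
set_option linter.unusedSectionVars false

namespace Cfsg.Agent.H879.Nine

open Matrix Cfsg Cfsg.Geo Cfsg.Agent.H915.LD Cfsg.Agent.LieClassical.OrthCore Cfsg.Agent.H936.List12
  Cfsg.Agent.H912.Bd Cfsg.Agent.H912.Five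

universe u v

variable {F : Type u} [Field F] [Fintype F] {P : Subgroup (GL (Fin 9) F)}

/-- `Sp₆(2)` -/
theorem row_sp62 (hC : Core P) (h2 : (2 : F) ≠ 0) (h : IsS 3 2 (Soc P)) : False := by
  classical
  obtain ⟨K, iF, iT, hK, ⟨e⟩⟩ := h
  have h1 : ∀ x : K, x = 0 ∨ x = 1 := by
    intro x
    by_contra hx
    push Not at hx
    have : ({0, 1, x} : Finset K).card ≤ Fintype.card K := Finset.card_le_univ _
    rw [Finset.card_insert_of_notMem, Finset.card_insert_of_notMem, Finset.card_singleton, hK] at this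
    · omega
    · simp only [Finset.mem_singleton]; exact fun h => hx.2 h.symm
    · simp only [Finset.mem_insert, Finset.mem_singleton, not_or]; exact ⟨zero_ne_one, fun h => hx.1 h.symm⟩
  have := H916.SpSix.spSix_dim h1 hC e h2 (by decide)
  rw [Fintype.card_fin] at this
  omega

/-- `U₄(3)` -/
theorem row_u43 {p : ℕ} [hp : Fact p.Prime] [CharP F p] (hp3 : p ≠ 3) (hb : (scalars (Fin 9) F).subgroupOf P = ⊥)
    (h : IsU 4 3 (Soc P)) : False := by
  obtain ⟨K, iF, iT, hK, ⟨e⟩⟩ := h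
  have h3 : CharP K 3 := charP_of_dvd Nat.prime_three (by rw [hK]; norm_num)
  have h3F : ((3 : ℕ) : F) ≠ 0 := cast_ne (p := p) Nat.prime_three (fun h => hp3 h.symm)
  have h1 : PR F 9 3 (Soc P) := PR.of_scalars P (MulEquiv.refl _) (by rw [hb]; simp)
  have := H175.BdSU.bd_psu (F := F) Nat.prime_three hK (by norm_num) h3F e 9 h1
  omega

/-- `L₂(q)`, cross characteristic: `q = 8, 17, 19` -/
theorem row_l2 {p : ℕ} [hp : Fact p.Prime] [CharP F p] (hC : Core P) {q : ℕ}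
    (hq : q ∈ ({7, 8, 11, 13, 17, 19, 23, 25} : Finset ℕ)) (hpq : ¬ p ∣ q) (h : IsL 2 q (Soc P)) :
    q = 8 ∨ q = 17 ∨ q = 19 := by
  obtain ⟨K, iF, iT, hK, ⟨e⟩⟩ := h
  have h5 : 5 ≤ Fintype.card K := by
    rw [hK]
    revert hq
    simp only [Finset.mem_insert, Finset.mem_singleton]
    omega
  have h9 : Fintype.card K ≠ 9 := by
    rw [hK]
    revert hq
    simp only [Finset.mem_insert, Finset.mem_singleton]
    omega
  have h1 := H464.Sl2.l2_degrees p hC h5 h9 (by rw [hK]; exact hpq) e (by decide)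
  rw [hK, Fintype.card_fin] at h1
  rcases h1 with ⟨h1, h2⟩ | ⟨h1, h2⟩ | ⟨h1, h2⟩ | ⟨h1, h2⟩ | ⟨h1, h2⟩ | ⟨h1, h2⟩ | ⟨h1, h2⟩ | ⟨h1, h2⟩ | ⟨h1, h2⟩
  · exact absurd h2 (by decide)
  · exact absurd h2 (by decide)
  · exact Or.inl h1
  · exact absurd h2 (by decide)
  · exact absurd h2 (by decide)
  · exact Or.inr (Or.inl h1)
  · exact Or.inr (Or.inr h1)
  · exact absurd h2 (by decide)
  · exact absurd h2 (by decide)

/-- `A₅` -/
theorem row_a5 {p : ℕ} [hp : Fact p.Prime] [CharP F p] (hC : Core P) (hL : ¬ p = 5)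
    (e : Soc P ≃* alternatingGroup (Fin 5)) : False := by
  have := H937.T2.a5_dims p hC e hL
  rw [Fintype.card_fin] at this
  exact absurd this (by decide)

end Cfsg.Agent.H879.Nine
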