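import Cfsg.Agent.H879.Nine.Ctx
import Cfsg.Agent.H936.List12b
import Cfsg.Agent.H905.MdN

/-!
# `Ω₉(q)`: the possible types of the socle (helper879)

`Ctx.types` : the socle is a candidate of the cross characteristic list or in the list `SmallDC` of the defining
characteristic.
-/

set_option autoImplicit false
set_option linter.unusedSectionVars false

namespace Cfsg.Agent.H879.Nine

open Matrix Cfsg Cfsg.Geo Cfsg.Agent.H915.LD Cfsg.Agent.LieClassical.OrthCore Cfsg.Agent.H936.List12

universe u v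

variable {ι : Type} [Fintype ι] [DecidableEq ι] {F : Type u} [Field F] [Fintype F] {p : ℕ}
  {Q : QuadraticForm F (ι → F)} {H P : Subgroup (GL ι F)}

/-- the same group in `GL (Fin 9) F` -/
structure Cop (P : Subgroup (GL ι F)) (P' : Subgroup (GL (Fin 9) F)) : Prop where
  core : Core P'
  fixQ : FixQ P'
  sd : SD P'
  bot : (scalars (Fin 9) F).subgroupOf P' = ⊥
  iso : Nonempty (Soc P ≃* Soc P')

theorem Ctx.cop (c : Ctx p Q H P) : ∃ P' : Subgroup (GL (Fin 9) F), Cop P P' := by
  let e : ι ≃ Fin 9 := Fintype.equivFinOfCardEq c.nine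
  have hC := Rx.core_rx e c.core
  have hQ := Rx.fixQ_rx e c.fixQ
  exact ⟨Rx.rx e P, hC, hQ, sd_of_fixQ hQ, TL.scalars_bot_of_odd hC hQ (by decide), ⟨Rx.socEqv e P⟩⟩

/-- the classification -/
def Known : Prop := ∀ (T : Type u) [Group T] [Finite T], IsSimpleGroup T → IsKnownSimple' T

theorem Ctx.types (c : Ctx p Q H P) (hk : Known.{u}) : ∃ P' : Subgroup (GL (Fin 9) F), Cop P P' ∧
    (CandD p 9 (Soc P') ∨ H905.Md.SmallDC p 9 (Soc P')) := by
  have := Fact.mk c.prime
  have := c.charP
  obtain ⟨P', h⟩ := c.cop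
  refine ⟨P', h, ?_⟩
  have hs : IsSimpleGroup (Soc P') := h.core.simple
  by_cases hL : IsLieTypeChar p (Soc P')
  · exact Or.inr (H905.Md.small_dc (p := p) h.core.absIrred.1 h.core.perfect hL (by decide))
  · rcases list₁ (by norm_num) h.core (hk _ hs) hL with h1 | h1
    · exact Or.inl h1
    · exact absurd h1.1 c.ne_two

end Cfsg.Agent.H879.Nine
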