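import Cfsg.Agent.H879.Nine.RowAlt
import Cfsg.Agent.H879.Nine.RowPSL
import Cfsg.Agent.H879.Nine.RowPSU
import Cfsg.Agent.H879.Nine.RowsQ
import Cfsg.Agent.H879.Nine.RowSpor
import Cfsg.Agent.H879.Nine.A7Seven
import Cfsg.Agent.H937.T2Nine
import Cfsg.Agent.H875.SteinDef
import Cfsg.Agent.H879.TL.KillSp
import Cfsg.Agent.H879.Nine.Types
import Cfsg.Agent.H464.L2Num
import Cfsg.Agent.H36.U52.Main
import Cfsg.Agent.H916.T8
import Cfsg.Agent.H814.SzEightCore
import Cfsg.Agent.H911.AdForm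
import Cfsg.Agent.H905.Sp4Final
import Cfsg.Agent.H929.UThreeModel
import Cfsg.Agent.H876.D3.Main
import Cfsg.Agent.H922.OmKill
import Cfsg.Agent.H927.G2Main
import Cfsg.Agent.H392.TD.Main
import Cfsg.Agent.H141.ReeK.Main
import Cfsg.Agent.H175.LD.Core33
import Cfsg.Agent.H659.U3Stage
import Cfsg.Agent.H659.Sp4Stage

/-!
# `Ω₉(q)`: assembly (helper879)

`main`, `final` : the statement S5836, given the classification.
-/

set_option autoImplicit false
set_option linter.unusedSectionVars false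

namespace Cfsg.Agent.H879.Nine

open Matrix Cfsg Cfsg.Geo Cfsg.Agent.H915.LD Cfsg.Agent.LieClassical.OrthCore Cfsg.Agent.H936.List12
  Cfsg.Agent.H912.Bd Cfsg.Agent.H912.Five

universe u v

/-- the conclusion of S5836 -/
def Concl {ι : Type} [Fintype ι] [DecidableEq ι] {F : Type u} [Field F] [Fintype F] (p : ℕ)
    (P : Subgroup (GL ι F)) : Prop :=
  ((∃ (K : Type) (_ : Field K) (_ : Fintype K), Fintype.card K = 8 ∧
      Nonempty (Soc P ≃* Matrix.ProjectiveSpecialLinearGroup (Fin 2) K)) ∧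
    ((Fintype.card F = p ∧ (p % 7 = 1 ∨ p % 7 = 6)) ∨
      (Fintype.card F = p ^ 3 ∧ (p % 7 = 2 ∨ p % 7 = 5 ∨ p % 7 = 3 ∨ p % 7 = 4)))) ∨
  (Nonempty (Soc P ≃* Matrix.ProjectiveSpecialLinearGroup (Fin 2) (ZMod 17)) ∧
    ((Fintype.card F = p ∧ (p % 17 = 1 ∨ p % 17 = 16 ∨ p % 17 = 2 ∨ p % 17 = 15 ∨ p % 17 = 4 ∨ p % 17 = 13 ∨
      p % 17 = 8 ∨ p % 17 = 9)) ∨
     (Fintype.card F = p ^ 2 ∧ (p % 17 = 3 ∨ p % 17 = 14 ∨ p % 17 = 5 ∨ p % 17 = 12 ∨ p % 17 = 6 ∨ p % 17 = 11 ∨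
      p % 17 = 7 ∨ p % 17 = 10)))) ∨
  (Nonempty (Soc P ≃* alternatingGroup (Fin 10)) ∧ Fintype.card F = p ∧ p ≠ 5 ∧ p ≠ 11) ∨
  (Nonempty (Soc P ≃* alternatingGroup (Fin 11)) ∧ Fintype.card F = 11) ∨
  (Nonempty (Soc P ≃* Matrix.ProjectiveSpecialLinearGroup (Fin 2) F) ∧ 11 ≤ p) ∨
  ((∃ (K : Type) (_ : Field K) (_ : Fintype K), Fintype.card K = Fintype.card F ^ 2 ∧
      Nonempty (Soc P ≃* Matrix.ProjectiveSpecialLinearGroup (Fin 2) K)) ∧ Fintype.card F ≠ 3)

/-- the socle is an orthogonal group (odd characteristic) -/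
def IsOrth (T : Type u) [Group T] : Prop :=
  IsPOmegaOdd T ∨
    (∃ (K : Type) (_ : Field K) (_ : Fintype K) (k : ℕ), 4 ≤ k ∧ Odd (Fintype.card K) ∧
      Nonempty (T ≃* Cfsg.POmega K (quadFormPlus k K))) ∨
    ∃ (K : Type) (_ : Field K) (_ : Fintype K) (k : ℕ) (a b : K), 4 ≤ k ∧ Odd (Fintype.card K) ∧
      (∀ z₁ z₂ : K, z₁ ^ 2 + a * z₁ * z₂ + b * z₂ ^ 2 = 0 → z₁ = 0 ∧ z₂ = 0) ∧
      Nonempty (T ≃* Cfsg.POmega K (quadFormMinus (k - 1) K a b))

section

variable {ι : Type} [Fintype ι] [DecidableEq ι] {F : Type u} [Field F] [Fintype F] {p : ℕ}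
  {Q : QuadraticForm F (ι → F)} {H P : Subgroup (GL ι F)}

theorem main (c : Ctx p Q H P) (hO : IsOrth (Soc P) → False) (hk : Known.{u}) : Concl p P := by
  have hp := Fact.mk c.prime
  have hch := c.charP
  obtain ⟨P', h, ht⟩ := c.types hk
  obtain ⟨s⟩ := h.iso
  have hnine := c.nine
  have h9 : Fintype.card (Fin 9) = 9 := Fintype.card_fin 9
  have two_odd : ∀ (K : Type) [Field K] [Fintype K] [CharP K p], Odd (Fintype.card K) := by
    intro K _ _ _
    obtain ⟨k, -, hk⟩ := FiniteField.card K p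
    rw [hk]
    exact (hp.out.odd_of_ne_two c.ne_two).pow
  have l2 : ∀ (E : Type) [Field E] [Fintype E] [CharP E p], (Soc P ≃* ProjectiveSpecialLinearGroup (Fin 2) E) →
      Concl p P := by
    intro E _ _ _ e
    rcases H875.Stein.omega_nine p c.two c.ndf hnine c.max c.res e with h1 | ⟨h1, h2⟩
    · exact Or.inr (Or.inr (Or.inr (Or.inr (Or.inl h1))))
    · exact Or.inr (Or.inr (Or.inr (Or.inr (Or.inr ⟨⟨E, inferInstance, inferInstance, h1, ⟨e⟩⟩, h2⟩))))
  rcases ht with (ht | ht | ht | ht | ht) | ht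
  · -- alternating groups
    obtain ⟨m, h5, h14, -, -, h14', ⟨e⟩⟩ := ht
    have e' := s.trans e
    rcases (show m = 5 ∨ m = 6 ∨ m = 7 ∨ 8 ≤ m by omega) with rfl | rfl | rfl | hm8
    · by_cases hp5 : p = 5
      · subst hp5
        obtain ⟨f⟩ := Cfsg.Agent.S0253.result (F := ZMod 5) (ZMod.card 5)
        exact l2 (ZMod 5) (e'.trans f.symm)
      · exact (row_a5 h.core hp5 e).elim
    · exact (H937.T2.a6_nine p c.two c.nd hnine c.max c.res e').elim
    · exact (A7.a7_nine h.core c.two h.fixQ h9 e).elim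
    · rcases alt_row c hm8 e' with ⟨rfl, h1⟩ | ⟨rfl, h1⟩
      · exact Or.inr (Or.inr (Or.inl ⟨⟨e'⟩, h1⟩))
      · exact Or.inr (Or.inr (Or.inr (Or.inl ⟨⟨e'⟩, h1⟩)))
  · -- classical groups, cross characteristic
    rcases ht with ⟨q, hq, hpq, -, ht⟩ | ⟨h3, -, ht⟩ | ⟨h3, -, ht⟩ | ⟨-, h1, -⟩ | ⟨-, h3, -, ht⟩ | ⟨-, -, ht⟩ |
      ⟨-, h1, -⟩ | ⟨-, -, ht⟩ | ⟨-, -, ht⟩
    · rcases row_l2 h.core hq hpq ht with rfl | rfl | rfl
      · obtain ⟨K, iK, iKf, hK, ⟨e⟩⟩ := ht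
        obtain ⟨-, -, h1⟩ := H464.Sl2.l2_8_9 p h.core hK c.ne_two e h9
        refine Or.inl ⟨⟨K, iK, iKf, hK, ⟨s.trans e⟩⟩, ?_⟩
        rcases h1 with h1 | ⟨h1, h4⟩
        · exact Or.inl h1
        · exact Or.inr ⟨h1, by omega⟩
      · obtain ⟨K, iK, iKf, hK, ⟨e⟩⟩ := ht
        have : Fact (Nat.Prime 17) := ⟨by norm_num⟩
        obtain ⟨e2⟩ := H363.PslCard.psl_of_card (n := Fin 2) (F := K) (F' := ZMod 17) (by rw [hK, ZMod.card])
        have e3 := (s.trans e).trans e2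
        obtain ⟨-, -, h1⟩ := H464.Sl2.l2_17_9 p h.core hK (fun h => hpq (by rw [h])) e h9
        refine Or.inr (Or.inl ⟨⟨e3⟩, ?_⟩)
        rcases h1 with ⟨h1, h4⟩ | ⟨h1, h4⟩
        · exact Or.inl ⟨h1, by omega⟩
        · exact Or.inr ⟨h1, by omega⟩
      · obtain ⟨K, iK, iKf, hK, ⟨e⟩⟩ := ht
        obtain ⟨-, h1, -⟩ := H464.Sl2.l2_19_9 p h.core hK (fun h => hpq (by rw [h])) e h9
        exact absurd h.sd h1
    · obtain ⟨K, iK, iKf, hK, ⟨e⟩⟩ := ht
      have := (H175.L33.l33 h.core p h3 hK e (by omega)).2.2.2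
      omega
    · obtain ⟨K, iK, iKf, hK, ⟨e⟩⟩ := ht
      have := (H659.U3.u33_stage h.core p c.ne_two h3 (by omega) hK e).2
      omega
    · omega
    · obtain ⟨K, iK, iKf, hK, ⟨e⟩⟩ := ht
      have := H659.Sp4.u42_stage' h.core p c.ne_two h3 (by omega) hK e
      omega
    · obtain ⟨K, iK, iKf, hK, ⟨e⟩⟩ := ht
      have := H36.U52.t6 h.core p c.ne_two (by omega) hK e
      omega
    · omega
    · exact (row_sp62 h.core c.two ht).elim
    · obtain ⟨K, iK, iKf, hK, ⟨e⟩⟩ := ht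
      have := (H916.T8.om hK h.core p e c.two (by omega)).1
      omega
  · -- exceptional multipliers
    rcases ht with ⟨-, h1, -⟩ | ⟨h3, -, ht⟩
    · omega
    · exact (row_u43 h3 h.bot ht).elim
  · obtain ⟨-, -, ht⟩ := ht
    have := (H814.Sz8.core_sz8 h.core c.two (by omega) ht).1
    omega
  · -- sporadic groups
    obtain ⟨h11, ⟨e⟩⟩ := row_spor p h.core c.two h.sd h.bot ht
    subst h11
    exact (ME.m11_kill c ⟨s.trans e⟩).elim
  · -- defining characteristic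
    rcases ht with ht | ht | ht | ⟨h2, -⟩ | ⟨h3, ht⟩ | ht | ht | ht | ht | ht | ⟨-, h2, -⟩
    · obtain ⟨K, iK, iKf, iKp, l, hl, hl4, ⟨e⟩⟩ := ht
      rcases (show l = 1 ∨ l = 2 ∨ 3 ≤ l by omega) with rfl | rfl | hl3
      · exact l2 K (s.trans e)
      · have := (H911.Ad.sd_psl3 p h.core h.sd e (by omega)).2.2.1
        omega
      · exact (own_psl (p := p) h.core h.fixQ (by omega) e).elim
    · obtain ⟨K, iK, iKf, iKp, m, hm, hm2, -, ⟨e⟩⟩ := ht
      by_cases h3 : m = 2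
      · subst h3
        have hK3 : 3 ≤ Nat.card K := by
          rw [Nat.card_eq_fintype_card]
          have h1 := two_odd K
          have h4 := Fintype.one_lt_card (α := K)
          rcases h1 with ⟨k, hk⟩
          omega
        have := (H905.Sp4.core_psp4 p h.core hK3 e (by omega)).2.2
        omega
      · have := TL.kill_psp h.core c.two h.bot (by omega) (two_odd K) e
        rw [Fintype.card_fin] at this
        omega
    · obtain ⟨K, iK, iKf, iKp, N, q, hK, hN, hN2, hN3, ⟨e⟩⟩ := ht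
      rcases (show N = 3 ∨ N = 4 ∨ 5 ≤ N by omega) with rfl | rfl | hN5
      · have hq3 : 3 ≤ q := by
          have h1 := two_odd K
          rw [hK] at h1
          have h4 : Odd q := by
            by_contra hq
            rw [Nat.not_odd_iff_even] at hq
            have h6 : Even (q ^ 2) := (Nat.even_pow.2 ⟨hq, by norm_num⟩)
            exact (Nat.not_odd_iff_even.2 h6) h1
          have h5 := Fintype.one_lt_card (α := K)
          rw [hK] at h5
          rcases h4 with ⟨k, hk⟩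
          rcases Nat.eq_zero_or_pos k with h6 | h6
          · subst h6
            subst hk
            norm_num at h5
          · omega
        have := H929.U3.core_psu3_sd p h.core hq3 hK e (by omega) h.sd
        omega
      · have := H876.D3.core_psu_four p K (by omega) hK h.core e
        omega
      · exact (own_psu (p := p) (by norm_num) h.core h.sd hN5 hK e).elim
    · exact absurd h2 c.ne_two
    · subst h3
      obtain ⟨K, iK, iKf, m, hm, hK, ⟨e⟩⟩ := ht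
      exact (H141.ReeK.ree_false h.core hm hK e (by omega) (by omega)).elim
    · obtain ⟨K, iK, iKf, iKp, m, hm, hm2, -, ⟨e⟩⟩ := ht
      exact (hO (Or.inl ⟨K, iK, iKf, m, hm, two_odd K, ⟨s.trans e⟩⟩)).elim
    · obtain ⟨K, iK, iKf, iKp, m, hm, hm2, ⟨e⟩⟩ := ht
      exact (hO (Or.inr (Or.inl ⟨K, iK, iKf, m, hm, two_odd K, ⟨s.trans e⟩⟩))).elim
    · obtain ⟨K, iK, iKf, iKp, m, a, b, hm, hm2, hab, ⟨e⟩⟩ := ht
      exact (hO (Or.inr (Or.inr ⟨K, iK, iKf, m, a, b, hm, two_odd K, hab, ⟨s.trans e⟩⟩))).elim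
    · obtain ⟨-, K, iK, iKf, iKp, -, ⟨e⟩⟩ := ht
      have hK3 : 3 ≤ Nat.card K := by
        rw [Nat.card_eq_fintype_card]
        have h1 := two_odd K
        have h4 := Fintype.one_lt_card (α := K)
        rcases h1 with ⟨k, hk⟩
        omega
      have := (H927.G2.core_g2 p h.core hK3 e (by omega)).2.2.2.2
      omega
    · obtain ⟨-, K, iK, iKf, iKp, q, hq, hK, ⟨e⟩⟩ := ht
      have := (H392.TD.d4_small p h.core hq hK e (by omega)).1
      omega
    · exact absurd h2 c.ne_two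

end

/-- **S5836 from the classification.** -/
theorem final (hk : Known.{u}) {F : Type u} [Field F] [Fintype F]
    (hodd : Odd (Fintype.card F)) (H : Subgroup (GL (Unit ⊕ (Fin 4 ⊕ Fin 4)) F))
    (hH : IsMaximalIn (omegaGL (quadFormOdd 4 F)) H) (hS : InOrthogonalResidualClass H) :
    ∃ (P : Subgroup (GL (Unit ⊕ (Fin 4 ⊕ Fin 4)) F)) (p : ℕ), IsResidualCore H P ∧ p.Prime ∧ CharP F p ∧
      Concl p P := by
  obtain ⟨P, hP, -⟩ := hS
  obtain ⟨p, hch⟩ := CharP.exists F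
  have hp : p.Prime := CharP.char_is_prime F p
  have h2 : (2 : F) ≠ 0 := by
    intro h0
    have h1 : ((2 : ℕ) : F) = 0 := by exact_mod_cast h0
    rw [CharP.cast_eq_zero_iff F p] at h1
    obtain rfl : p = 2 := (Nat.prime_dvd_prime_iff_eq hp Nat.prime_two).1 h1
    have := Fact.mk hp
    obtain ⟨k, -, hk⟩ := FiniteField.card F 2
    rw [hk, Nat.odd_iff] at hodd
    have : 2 ∣ 2 ^ (k : ℕ) := dvd_pow_self 2 k.ne_zero
    omega
  have hO : IsOrth (Soc P) → False := fun hT =>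
    H922.OmGL.not_pomega hodd (m := 4) (by norm_num) hH.1 hP.le (core_of_residual hP) hT
  obtain ⟨Q, hQ, hQn⟩ := H883.Bridge.exists_quadraticForm (H883.Bridge.isNondegenerateQuadraticForm_odd hodd 4)
  rw [← hQ] at hH
  have c : Ctx p Q H P := ⟨hp, hch, h2, by simp, hQn, hH, hP⟩
  exact ⟨P, p, hP, hp, hch, main c hO hk⟩

end Cfsg.Agent.H879.Nine
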