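import Cfsg.Agent.H882.Sc.Core

/-!
# `A₇` has no orthogonal irreducible representation of dimension `9`, characteristic `≠ 2, 7` (helper879)

`L₂(7) = ⟨c, y, t⟩ < A₇` with `c` of order seven. The fixed space of `c` has dimension three; Scott's lemma and the
four-group `⟨z, b⟩ ≤ L₂(7)` show that the four-group has no fixed vector. A vector `w` fixed by `c` is then fixed by `y`
and `w + N t w`, `N = ∑ c ^ i`, is fixed by `L₂(7)`, so it is zero; this gives `4 w = 0`.
-/

set_option autoImplicit false
set_option linter.unusedSectionVars false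
set_option maxRecDepth 10000
set_option maxHeartbeats 1000000

namespace Cfsg.Agent.H879.Nine.A7

open Module Equiv Cfsg.Agent.H637.JW Cfsg.Agent.H882.Dim Cfsg.Agent.H882.Sc Cfsg.Agent.H923.Ten.A7
  Cfsg.Agent.H882.Sc.A7

/-- the seven-cycle `(0 1 2 4 6 3 5)` -/
def kc : A := e2 0 1 1 2 * e2 2 4 4 6 * e2 6 3 3 5
/-- `(1 2 6)(3 4 5)` -/
def ky : A := e2 1 2 2 6 * e2 3 4 4 5
/-- `(2 6)(3 5)` -/
def kt : A := e2 2 6 3 5

variable {K : Type*} [Field K] {V : Type*} [AddCommGroup V] [Module K V] [FiniteDimensional K V]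
  {σ : A →* Module.End K V}

/-- the sum over `⟨c⟩` -/
def N (σ : A →* Module.End K V) (v : V) : V :=
  v + σ kc v + σ (kc ^ 2) v + σ (kc ^ 3) v + σ (kc ^ 4) v + σ (kc ^ 5) v + σ (kc ^ 6) v

theorem N_c (v : V) : N σ (σ kc v) = N σ v := by
  unfold N
  rw [← mul_apply', ← mul_apply', ← mul_apply', ← mul_apply', ← mul_apply', ← mul_apply',
    ← pow_succ, ← pow_succ, ← pow_succ, ← pow_succ, ← pow_succ, show kc * kc = kc ^ 2 from (pow_two kc).symm,
    show kc ^ (6 + 1) = 1 by decide +kernel, act_one]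
  abel

theorem N_pow (k : ℕ) (v : V) : N σ (σ (kc ^ k) v) = N σ v := by
  induction k generalizing v with
  | zero => rw [pow_zero, act_one]
  | succ n ih => rw [pow_succ, mul_apply', ih, N_c]

theorem c_N (v : V) : σ kc (N σ v) = N σ v := by
  unfold N
  rw [map_add, map_add, map_add, map_add, map_add, map_add,
    ← mul_apply', ← mul_apply', ← mul_apply', ← mul_apply', ← mul_apply', ← mul_apply',
    ← pow_succ', ← pow_succ', ← pow_succ', ← pow_succ', ← pow_succ', show kc * kc = kc ^ 2 from (pow_two kc).symm,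
    show kc ^ (6 + 1) = 1 by decide +kernel, act_one]
  abel

theorem N_add (v w : V) : N σ (v + w) = N σ v + N σ w := by
  unfold N
  simp only [map_add]
  abel

theorem N_zero : N σ (0 : V) = 0 := by
  unfold N
  simp only [map_zero, add_zero]

theorem y_N (v : V) : σ ky (N σ v) = N σ (σ ky v) := by
  have h : ∀ k l : ℕ, ky * kc ^ k = kc ^ l * ky → σ ky (σ (kc ^ k) v) = σ (kc ^ l) (σ ky v) := by
    intro k l h
    rw [← mul_apply', h, mul_apply']
  unfold N
  rw [map_add, map_add, map_add, map_add, map_add, map_add, h 2 4 (by decide +kernel), h 3 6 (by decide +kernel),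
    h 4 1 (by decide +kernel), h 5 3 (by decide +kernel), h 6 5 (by decide +kernel), pow_one,
    show σ ky (σ kc v) = σ (kc ^ 2) (σ ky v) by
      rw [← mul_apply', ← mul_apply', show ky * kc = kc ^ 2 * ky by decide +kernel]]
  abel

/-- **The argument in `L₂(7)`.** -/
theorem no_fix (h2 : (2 : K) ≠ 0) (h7 : (7 : K) ≠ 0) (hV : ∀ v : V, σ z v = v → σ b1 v = v → v = 0) {w : V}
    (hw : σ kc w = w) : w = 0 := by
  have hpow : ∀ (v : V), σ kc v = v → ∀ k : ℕ, σ (kc ^ k) v = v := by
    intro v hv k
    induction k with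
    | zero => rw [pow_zero, act_one]
    | succ n ih => rw [pow_succ, mul_apply', hv, ih]
  -- the four-group
  have four : ∀ v : V, v + σ z v + σ b1 v + σ (z * b1) v = 0 := by
    intro v
    apply hV
    · rw [map_add, map_add, map_add, ← mul_apply', ← mul_apply', ← mul_apply', show z * z = 1 by decide +kernel,
        show z * (z * b1) = b1 by decide +kernel, act_one]
      abel
    · rw [map_add, map_add, map_add, ← mul_apply', ← mul_apply', ← mul_apply', show b1 * b1 = 1 by decide +kernel,
        show b1 * (z * b1) = z by decide +kernel, show b1 * z = z * b1 by decide +kernel, act_one]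
      abel
  have star : ∀ v : V, σ kc v = v → (7 : K) • v + N σ (σ kt v) + N σ (σ kt (σ ky v)) + N σ (σ kt (σ (ky * ky) v)) = 0 := by
    intro v hv
    have h1 := four v
    have hz : σ z v = σ (kc ^ 6) (σ kt (σ (ky * ky) v)) := by
      conv_rhs => rw [← hv]
      rw [← mul_apply', ← mul_apply', ← mul_apply', show kc ^ 6 * kt * (ky * ky) * kc = z by decide +kernel]
    have hb : σ b1 v = σ (kc ^ 4) (σ kt (σ ky v)) := by
      conv_rhs => rw [← hpow v hv 3]
      rw [← mul_apply', ← mul_apply', ← mul_apply', show kc ^ 4 * kt * ky * kc ^ 3 = b1 by decide +kernel]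
    have hzb : σ (z * b1) v = σ (kc ^ 3) (σ kt v) := by
      conv_rhs => rw [← hpow v hv 4]
      rw [← mul_apply', ← mul_apply', show kc ^ 3 * kt * kc ^ 4 = z * b1 by decide +kernel]
    rw [hz, hb, hzb] at h1
    have h3 := congrArg (N σ) h1
    rw [N_add, N_add, N_add, N_pow, N_pow, N_pow, N_zero] at h3
    have h4 : N σ v = (7 : K) • v := by
      unfold N
      rw [hv, hpow v hv, hpow v hv, hpow v hv, hpow v hv, hpow v hv]
      module
    rw [h4] at h3
    rw [← h3]
    abel
  -- `y` acts trivially on the fixed space of `c`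
  have hyc : ∀ v : V, σ kc v = v → σ kc (σ ky v) = σ ky v := by
    intro v hv
    rw [← mul_apply', show kc * ky = ky * kc ^ 4 by decide +kernel, mul_apply', hpow v hv]
  have hyyy : ∀ v : V, σ (ky * ky) (σ ky v) = v := by
    intro v
    rw [← mul_apply', show ky * ky * ky = 1 by decide +kernel, act_one]
  have hyw : σ ky w = w := by
    have h1 := star w hw
    have h3 := star (σ ky w) (hyc w hw)
    rw [hyyy, show σ ky (σ ky w) = σ (ky * ky) w from (mul_apply' _ _ _).symm] at h3
    have h4 : (7 : K) • (σ ky w - w) = 0 := by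
      rw [smul_sub]
      have : (7 : K) • σ ky w - (7 : K) • w = ((7 : K) • σ ky w + N σ (σ kt (σ ky w)) + N σ (σ kt (σ (ky * ky) w)) +
        N σ (σ kt w)) - ((7 : K) • w + N σ (σ kt w) + N σ (σ kt (σ ky w)) + N σ (σ kt (σ (ky * ky) w))) := by abel
      rw [this, h3, h1, sub_zero]
    exact sub_eq_zero.1 ((smul_eq_zero.1 h4).resolve_left h7)
  have hyyw : σ (ky * ky) w = w := by rw [mul_apply', hyw, hyw]
  have h73 := star w hw
  rw [hyw, hyyw] at h73
  -- the fixed vector
  have hs : w + N σ (σ kt w) = 0 := by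
    set s := w + N σ (σ kt w) with hs
    have sc : σ kc s = s := by rw [hs, map_add, hw, c_N]
    have sy : σ ky s = s := by
      rw [hs, map_add, hyw, y_N, ← mul_apply', show ky * kt = kt * (ky * ky) by decide +kernel, mul_apply', hyyw]
    have st : σ kt s = s := by
      have h : ∀ (k a : ℕ) (g : A), kt * kc ^ k * kt = kc ^ a * (kt * g) → σ g w = w →
          σ kt (σ (kc ^ k) (σ kt w)) = σ (kc ^ a) (σ kt w) := by
        intro k a g h1 h3
        rw [← mul_apply', ← mul_apply', h1, mul_apply', mul_apply', h3]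
      have hg0 : ∀ k, σ (kc ^ k) w = w := hpow w hw
      have hg1 : ∀ k, σ (ky * kc ^ k) w = w := fun k => by rw [mul_apply', hg0, hyw]
      have hg2 : ∀ k, σ (ky * ky * kc ^ k) w = w := fun k => by rw [mul_apply', hg0, hyyw]
      have e1 := h 1 3 (ky * kc ^ 3) (by decide +kernel) (hg1 3)
      rw [pow_one] at e1
      rw [hs]
      unfold N
      rw [map_add, map_add, map_add, map_add, map_add, map_add, map_add, e1,
        h 2 5 (kc ^ 5) (by decide +kernel) (hg0 5), h 3 1 (ky * ky * kc ^ 1) (by decide +kernel) (hg2 1),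
        h 4 6 (ky * ky * kc ^ 6) (by decide +kernel) (hg2 6), h 5 2 (kc ^ 2) (by decide +kernel) (hg0 2),
        h 6 4 (ky * kc ^ 4) (by decide +kernel) (hg1 4), ← mul_apply' kt kt, show kt * kt = 1 by decide +kernel,
        act_one, pow_one]
      abel
    have spow : ∀ k : ℕ, σ (kc ^ k) s = s := hpow s sc
    apply hV
    · rw [show z = kc ^ 6 * (kt * (ky * (ky * kc))) by decide +kernel, mul_apply', mul_apply', mul_apply', mul_apply',
        sc, sy, sy, st, spow]
    · rw [show b1 = kc ^ 4 * (kt * (ky * kc ^ 3)) by decide +kernel, mul_apply', mul_apply', mul_apply',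
        spow, sy, st, spow]
  have h4 : (2 : K) • (2 : K) • w = 0 := by
    have : (2 : K) • (2 : K) • w = ((7 : K) • w + N σ (σ kt w) + N σ (σ kt w) + N σ (σ kt w)) -
        (3 : K) • (w + N σ (σ kt w)) := by module
    rw [this, h73, hs, smul_zero, sub_zero]
  exact (smul_eq_zero.1 ((smul_eq_zero.1 h4).resolve_left h2)).resolve_left h2

/-- **`A₇` in dimension `9`, characteristic `≠ 7`.** -/
theorem nine [IsAlgClosed K] (h2 : (2 : K) ≠ 0) (h7 : (7 : K) ≠ 0) (hI : Irr σ) {B : V →ₗ[K] V →ₗ[K] K}
    (hB : Form σ B) (hV : finrank K V = 9) : False := by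
  have : Fact (Nat.Prime 7) := ⟨by norm_num⟩
  have : IsSimpleGroup A := alternatingGroup.isSimpleGroup (by simp)
  have k1 := klein (σ := σ) h2 (a := z) (b := b1) (by decide +kernel) (by decide +kernel) (by decide +kernel) rfl
    (fix_conj (k := y1) (by decide +kernel)) (fix_conj (k := y1 * y1) (by decide +kernel))
  rw [hV] at k1
  have h7' : ((7 : ℕ) : K) ≠ 0 := by exact_mod_cast h7
  obtain ⟨m, hm⟩ := eig hB (c := c) (y := yc) (r := 7) (k := 2) h7' (by decide +kernel) (by decide +kernel) res7
  obtain ⟨m', hm'⟩ := eig hB (c := z * c) (y := yzc) (r := 7) (k := 2) h7' (by decide +kernel) (by decide +kernel)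
    res7
  obtain ⟨m'', hm''⟩ := eig hB (c := kc) (y := ky) (r := 7) (k := 2) h7' (by decide +kernel) (by decide +kernel) res7
  have l1 := hI.fix_lt (g := c) (by decide +kernel)
  have l2 := hI.fix_lt (g := z * c) (by decide +kernel)
  have l3 := hI.fix_lt (g := kc) (by decide +kernel)
  have s1 := hI.scott gen_zc
  have h0 : finrank K (Fix σ z ⊓ Fix σ b1 : Submodule K V) = 0 := by omega
  have hbot := Submodule.finrank_eq_zero.1 h0
  have h3 : Fix σ kc = ⊥ := by
    rw [eq_bot_iff]
    intro w hw
    rw [Submodule.mem_bot]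
    refine no_fix h2 h7 (fun v hz hb => ?_) (mem_Fix.1 hw)
    have : v ∈ (Fix σ z ⊓ Fix σ b1 : Submodule K V) := ⟨mem_Fix.2 hz, mem_Fix.2 hb⟩
    rw [hbot] at this
    exact (Submodule.mem_bot K).1 this
  rw [h3, finrank_bot] at hm''
  omega

end Cfsg.Agent.H879.Nine.A7
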