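import Cfsg.Agent.H6.M11.Stage11

/-!
# Words in the Mathieu groups of degrees 11 and 12 (helper879)

Letters as in `H6.M11` and `9, 10` in the group of degree 12. `certA`, `certB` : `(A, B, ε, L)` means
`A = B y^ε L₁ L₂ ⋯` with `Lᵢ ∈ {e₁, e₂, y², s y}`.
-/

set_option autoImplicit false
set_option maxRecDepth 100000

namespace Cfsg.Agent.H879.Nine.ME

open Cfsg Cfsg.Agent.H6.M11 Cfsg.Agent.CoThreeStd.MTwelve

/-- words of the letters in the generators of the group of degree 12 -/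
def W' : ℕ → List ℕ
  | 9 => [0,1,5,1,2,1,4,5,0,1]
  | 10 => [0,4,5,2,1,5,3,2,1]
  | n => W n

/-- certificates -/
def certA : List (List ℕ × List ℕ × Bool × List (List ℕ)) := [
  ([2,2,4,4], [4,4], false, [[3,2]]), ([3,2,4,4], [4,4], false, [[3,2],[2,2],[2,2],[2,2]]),
  ([2,2,4,4,4,4], [4,4,4,4], false, [[3,2],[2,2],[2,2],[2,2]]), ([3,2,4,4,4,4], [4,4,4,4], false, [[2,2]]),
  ([4,4,4,4,4,4], [], false, []), ([2,4,4], [4,4,4,4], true, [[2,2],[2,2],[2,2]]),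
  ([2,4,4,4,4], [4,4], true, [[3,2],[2,2],[2,2],[2,2]]), ([4,4,7], [4,4], false, [[0],[0],[1],[2,2],[2,2]]),
  ([1,7], [], false, [[0],[0],[1],[1],[2,2],[2,2]]), ([5,4,1,7], [1,7,4,4], false, [[0],[0],[1],[2,2]]),
  ([5,4,1,7,4,4], [4,4,7,4,4], true, [[2,2],[2,2]]), ([5,0,3,6,5], [1,2,6,5], true, [[0],[0],[1],[3,2],[2,2]]),
  ([2,7,6,5], [1,2,6,5], false, [[0],[1],[2,2],[2,2]]),
  ([2,7,6,5,4,4], [5,1,2,6,5], false, [[1],[2,2],[2,2],[2,2]]),
  ([2,7,6,5,4,4,4,4], [1,4,2], true, [[0],[1],[1],[3,2],[2,2],[2,2]]),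
  ([1,8,6,5], [1,2,6,5], false, [[0],[1],[1],[3,2],[2,2]]),
  ([1,8,6,5,4,4], [5,1,4,2], false, [[0],[1],[1],[3,2],[2,2],[2,2],[2,2]]),
  ([1,8,6,5,4,4,4,4], [6,1,4], true, [[1],[1],[3,2],[2,2],[2,2]]), ([1,2,6,5], [1,2,6,5], false, []),
  ([1,2,6,5,4,4], [5,6,1,4], false, [[0],[0],[2,2]]), ([1,2,6,5,4,4,4,4], [0,4,2], true, [[0],[0],[1],[3,2]]),
  ([2,4,0,6], [1,2,6,5], false, [[1],[1],[3,2],[2,2],[2,2],[2,2]]), ([2,4,0,6,4,4], [5,0,4,2], false, [[0],[1]]),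
  ([2,4,0,6,4,4,4,4], [2,6,5], true, [[1],[1],[3,2],[2,2],[2,2]]),
  ([4,0,4,4], [1,2,6,5], false, [[0],[0],[3,2],[2,2],[2,2]]),
  ([4,0,4,4,4,4], [5,2,6,5], false, [[2,2],[2,2],[2,2]]),
  ([4,0,4,4,4,4,4,4], [4,2], true, [[1],[2,2],[2,2],[2,2]]),
  ([1,7,4,2], [1,2,6,5], false, [[0],[0],[1],[1],[3,2],[2,2]]), ([1,7,4,2,4,4], [5,4,2], false, [[0]]),
  ([1,7,4,2,4,4,4,4], [], true, [[0],[0],[3,2],[2,2]]), ([1,7,4,8], [1,2,6,5], false, [[0],[0],[1],[2,2]]),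
  ([1,7,4,8,4,4], [5], false, [[0],[1],[1],[2,2],[2,2],[2,2]]),
  ([1,7,4,8,4,4,4,4], [0,1,4,2], true, [[1],[1],[3,2],[2,2],[2,2],[2,2]]),
  ([2,8,4,8], [1,2,6,5], false, [[0],[3,2],[2,2],[2,2]]),
  ([2,8,4,8,4,4], [5,0,1,4,2], false, [[0],[0],[1],[1],[3,2],[2,2],[2,2]]),
  ([2,8,4,8,4,4,4,4], [3,6,5], true, [[1],[2,2]]), ([0,6,3,8,5], [1,2,6,5], false, [[1],[2,2]]),
  ([0,6,3,8,5,4,4], [5,3,6,5], false, [[0],[0]]),
  ([0,6,3,8,5,4,4,4,4], [0,3,6,5], true, [[0],[1],[1],[3,2],[2,2]]), ([8], [], true, [[0],[1],[1],[3,2]]),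
  ([1,1], [], false, [[1],[1]]), ([1,1,4,4], [8,1,2,6,5], false, [[0],[0],[1],[1],[2,2],[2,2],[2,2]]),
  ([1,1,4,4,4,4], [3,6,5], true, [[0],[0],[2,2],[2,2],[2,2]]), ([7], [], false, [[0],[0],[1],[2,2],[2,2]]),
  ([7,4,4], [8,1,4,2], false, [[3,2],[2,2],[2,2]]),
  ([7,4,4,4,4], [2,6,5], true, [[0],[0],[3,2],[2,2],[2,2],[2,2]]), ([], [], false, []),
  ([4,4], [8,6,1,4], false, [[0],[0],[1],[1],[2,2]]), ([4,4,4,4], [4,2], true, [[2,2],[2,2],[2,2]]),
  ([0], [], false, [[0]]), ([0,4,4], [8,0,4,2], false, [[3,2]]), ([0,4,4,4,4], [0,4,2], true, [[2,2],[2,2],[2,2]]),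
  ([1], [], false, [[1]]), ([1,4,4], [8,2,6,5], false, [[0],[0],[1],[1],[2,2],[2,2],[2,2]]),
  ([1,4,4,4,4], [1,4,2], true, [[2,2],[2,2],[2,2]]), ([0,0], [], false, [[0],[0]]),
  ([0,0,4,4], [8,4,2], false, [[3,2]]), ([0,0,4,4,4,4], [6,1,4], true, [[0],[0],[3,2],[2,2],[2,2],[2,2]]),
  ([0,1], [], false, [[0],[1]]), ([0,1,4,4], [8,0,1,4,2], false, [[3,2]]),
  ([0,1,4,4,4,4], [0,1,4,2], true, [[2,2],[2,2],[2,2]]), ([1,7], [], false, [[0],[0],[1],[1],[2,2],[2,2]]),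
  ([1,7,4,4], [8,3,6,5], false, [[0],[0],[1],[1],[3,2],[2,2],[2,2]]),
  ([1,7,4,4,4,4], [1,2,6,5], true, [[0],[0],[3,2],[2,2],[2,2],[2,2]]), ([0,1,1], [], false, [[0],[1],[1]]),
  ([0,1,1,4,4], [8,0,3,6,5], false, [[0],[0],[1],[1],[3,2]]),
  ([0,1,1,4,4,4,4], [0,3,6,5], true, [[0],[0],[2,2],[2,2],[2,2]]),
  ([0,1,2,6,5], [3,6,5], false, [[0],[1],[1],[3,2],[2,2]]), ([0,1,4,2], [0,1,4,2], false, []),
  ([0,6,1,4], [4,2], false, [[0],[3,2],[2,2],[2,2],[2,2]]),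
  ([0,0,4,2], [6,1,4], false, [[0],[0],[1],[1],[3,2],[2,2]]), ([0,2,6,5], [1,4,2], false, [[0],[0],[3,2],[2,2]]),
  ([0,4,2], [0,4,2], false, []), ([0], [], false, [[0]]),
  ([0,0,1,4,2], [2,6,5], false, [[0],[0],[1],[1],[3,2],[2,2],[2,2],[2,2]]), ([0,3,6,5], [0,3,6,5], false, []),
  ([0,0,3,6,5], [1,2,6,5], false, [[1],[1],[3,2],[2,2],[2,2],[2,2]])]

/-- certificates for the group of degree 12 -/
def certB : List (List ℕ × List ℕ × Bool × List (List ℕ)) := [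
  ([0,9], [9], false, [[0],[1]]), ([1,9], [9], false, [[1],[1]]), ([9,2,9,2,9,2], [], false, []),
  ([9,9], [], false, []), ([9,4,4,4,4], [4,4,4,4,2,9,2], false, [[3,2],[2,2],[2,2],[2,2]]),
  ([10,4,4], [9,4,4], false, [[0],[1],[2,2],[2,2],[2,2]]), ([10,10,10], [], false, [])]

/-- `v_d = g_d u` -/
def gw : ℕ → List ℕ
  | 1 => [1,2,6,5]
  | 2 => [1,4,2]
  | 3 => [6,1,4]
  | 4 => [0,4,2]
  | 5 => [2,6,5]
  | 6 => [4,2]
  | 8 => [0,1,4,2]
  | 9 => [3,6,5]
  | 10 => [0,3,6,5]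
  | _ => []

/-- words for `x` -/
def hx : ℕ → List ℕ
  | 2 => [2,7,6,5]
  | 3 => [1,8,6,5]
  | 4 => [1,2,6,5]
  | 5 => [2,4,0,6]
  | 6 => [4,0,4,4]
  | 7 => [1,7,4,2]
  | 8 => [1,7,4,8]
  | 9 => [2,8,4,8]
  | 10 => [0,6,3,8,5]
  | _ => []

/-- words for `t` -/
def ht : ℕ → List ℕ
  | 1 => [1,1]
  | 2 => [7]
  | 4 => [0]
  | 5 => [1]
  | 6 => [0,0]
  | 8 => [0,1]
  | 9 => [1,7]
  | 10 => [0,1,1]
  | _ => []

/-- the permutation of `t` -/
def tp : ℕ → ℕ
  | 0 => 7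
  | 1 => 9
  | 2 => 5
  | 3 => 6
  | 4 => 4
  | 5 => 2
  | 6 => 3
  | 7 => 0
  | 8 => 8
  | 9 => 1
  | 10 => 10
  | n => n

/-- the permutation of `e₁` -/
def ep : ℕ → ℕ
  | 0 => 0
  | 1 => 9
  | 2 => 8
  | 3 => 6
  | 4 => 3
  | 5 => 2
  | 6 => 4
  | 7 => 7
  | 8 => 5
  | 9 => 10
  | 10 => 1
  | n => n

/-- right-hand side of a certificate -/
def rhs (r : List ℕ × Bool × List (List ℕ)) : List ℕ := r.1 ++ ((if r.2.1 then [2] else []) ++ r.2.2.flatten)

/-- the letters in the group of degree 12 -/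
def vM (i : ℕ) : Spor.M12 := wd (W' i)

theorem ev_vM (w : List ℕ) : ev vM w = wd (w.flatMap W') := by
  induction w with
  | nil => rfl
  | cons i w ih => rw [ev_cons, ih, List.flatMap_cons, wd_append]; rfl

theorem sat_M : Sat vM := by
  have h : (relL.all fun r => eqW (r.1.flatMap W') (r.2.flatMap W')) = true := by decide +kernel
  intro r hr
  rw [ev_vM, ev_vM]
  exact wd_eq (List.all_eq_true.1 h r hr)

/-- the certificates hold -/
def Cert {G : Type*} [Group G] (v : ℕ → G) (L : List (List ℕ × List ℕ × Bool × List (List ℕ))) : Prop :=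
  ∀ r ∈ L, ev v r.1 = ev v (rhs r.2)

section

variable {G : Type*} [Group G] {v : ℕ → G} {L : List (List ℕ × List ℕ × Bool × List (List ℕ))}

theorem Cert.map {H : Type*} [Group H] (h : Cert v L) (f : G →* H) : Cert (fun i => f (v i)) L := by
  intro r hr
  rw [← map_ev, ← map_ev, h r hr]

theorem Cert.of_injective {H : Type*} [Group H] {f : G →* H} (hf : Function.Injective f)
    (h : Cert (fun i => f (v i)) L) : Cert v L := by
  intro r hr
  apply hf
  rw [map_ev, map_ev]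
  exact h r hr

end

theorem certA_M : Cert vM certA := by
  have h : (certA.all fun r => eqW (r.1.flatMap W') ((rhs r.2).flatMap W')) = true := by decide +kernel
  intro r hr
  rw [ev_vM, ev_vM]
  exact wd_eq (List.all_eq_true.1 h r hr)

theorem certB_M : Cert vM certB := by
  have h : (certB.all fun r => eqW (r.1.flatMap W') ((rhs r.2).flatMap W')) = true := by decide +kernel
  intro r hr
  rw [ev_vM, ev_vM]
  exact wd_eq (List.all_eq_true.1 h r hr)

theorem certA_H : Cert vH certA := by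
  have h : (certA.all fun r => eqW (r.1.flatMap W) ((rhs r.2).flatMap W)) = true := by decide +kernel
  intro r hr
  rw [ev_vH, ev_vH]
  exact wd_eq (List.all_eq_true.1 h r hr)

theorem certA_11 : Cert v11 certA :=
  Cert.of_injective (f := Subgroup.inclusion M11_le) (Subgroup.inclusion_injective _) certA_H

/-- words of the elements of `E` -/
def wE : ℕ → List ℕ
  | 0 => []
  | 1 => [0]
  | 2 => [0, 0]
  | 3 => [1]
  | 4 => [0, 1]
  | 5 => [0, 0, 1]
  | 6 => [1, 1]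
  | 7 => [0, 1, 1]
  | 8 => [0, 0, 1, 1]
  | _ => []

theorem wE_injective : Function.Injective (fun i : Fin 9 => ev v11 (wE i)) := by
  intro i j hij
  have h1 : ev vH (wE i) = ev vH (wE j) := by
    have h2 := congrArg (Subgroup.inclusion M11_le) hij
    simp only [map_ev] at h2
    exact h2
  rw [ev_vH, ev_vH] at h1
  have h3 : ∀ i j : Fin 9, act ((wE i).flatMap W) 3 = act ((wE j).flatMap W) 3 → i = j := by decide +kernel
  apply h3
  have h4 := (act_spec ((wE i).flatMap W) 3 (by norm_num)).1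
  have h5 := (act_spec ((wE j).flatMap W) 3 (by norm_num)).1
  rw [← h4, ← h5, h1]

theorem vM_ne {i : ℕ} (h3 : act (W' i) 3 ≠ 3) : vM i ≠ 1 := by
  intro h
  have h1 : wd (W' i) = wd [] := h
  apply h3
  have h4 := (act_spec (W' i) 3 (by norm_num)).1
  rw [h1, (act_spec [] 3 (by norm_num)).1] at h4
  exact h4.symm

theorem vM_five_ne : vM 5 ≠ 1 := vM_ne (by decide +kernel)

theorem vM_zero_ne : vM 0 ≠ 1 := vM_ne (by decide +kernel)

/-! ### applying the certificates -/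

open Module LinearMap

variable {G : Type*} [Group G] {v : ℕ → G} {k : Type*} [Field k] {V : Type*} [AddCommGroup V] [Module k V]
  {R : G →* End k V} {u : V}

/-- the vector `u` -/
structure Fx (v : ℕ → G) (R : G →* End k V) (u : V) : Prop where
  e₁ : op v R [0] u = u
  e₂ : op v R [1] u = u
  y : op v R [2] u = -u
  s : op v R [3] u = -u

theorem Fx.yy (h : Fx v R u) : op v R [2, 2] u = u := by
  rw [op_cons, Module.End.mul_apply, h.y, map_neg, h.y, neg_neg]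

theorem Fx.sy (h : Fx v R u) : op v R [3, 2] u = u := by
  rw [op_cons, Module.End.mul_apply, h.y, map_neg, h.s, neg_neg]

/-- good blocks -/
def okB (b : List ℕ) : Bool := b == [0] || b == [1] || b == [2, 2] || b == [3, 2]

theorem Fx.block (h : Fx v R u) {b : List ℕ} (hb : okB b = true) : op v R b u = u := by
  simp only [okB, Bool.or_eq_true, beq_iff_eq] at hb
  rcases hb with ((rfl | rfl) | rfl) | rfl
  · exact h.e₁
  · exact h.e₂
  · exact h.yy
  · exact h.sy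

theorem Fx.blocks (h : Fx v R u) {L : List (List ℕ)} (hL : L.all okB = true) : op v R L.flatten u = u := by
  induction L with
  | nil => rw [List.flatten_nil, op_nil]; rfl
  | cons b L ih =>
    rw [List.all_cons, Bool.and_eq_true] at hL
    rw [List.flatten_cons, op_append, Module.End.mul_apply, ih hL.2, h.block hL.1]

/-- look up -/
def has (L : List (List ℕ × List ℕ × Bool × List (List ℕ))) (A B : List ℕ) (n : Bool) : Bool :=
  L.any fun r => r.1 == A && (r.2.1 == B && (r.2.2.1 == n && r.2.2.2.all okB))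

theorem Fx.app (h : Fx v R u) {L : List (List ℕ × List ℕ × Bool × List (List ℕ))} (hL : Cert v L) {A B : List ℕ}
    {n : Bool} (hr : has L A B n = true) : op v R A u = if n then -op v R B u else op v R B u := by
  obtain ⟨⟨A', B', n', bl⟩, hmem, hx⟩ := List.any_eq_true.1 hr
  simp only [Bool.and_eq_true, beq_iff_eq] at hx
  obtain ⟨rfl, rfl, rfl, hbl⟩ := hx
  have h1 : op v R A' = op v R (rhs (B', n', bl)) := by
    unfold op
    rw [hL _ hmem]
  rw [h1, rhs, op_append, op_append, Module.End.mul_apply, Module.End.mul_apply, h.blocks hbl]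
  cases n'
  · simp only [Bool.false_eq_true, if_false]
    rw [op_nil]; rfl
  · simp only [if_true]
    rw [h.y, map_neg]

theorem Fx.pos (h : Fx v R u) {L : List (List ℕ × List ℕ × Bool × List (List ℕ))} (hL : Cert v L) {A B : List ℕ}
    (hr : has L A B false = true) : op v R A u = op v R B u := h.app hL hr

theorem Fx.neg (h : Fx v R u) {L : List (List ℕ × List ℕ × Bool × List (List ℕ))} (hL : Cert v L) {A B : List ℕ}
    (hr : has L A B true = true) : op v R A u = -op v R B u := h.app hL hr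

end Cfsg.Agent.H879.Nine.ME
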