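import Cfsg.Agent.H879.Nine.MECert

/-!
# The Mathieu group of degree 11 in dimension 9, characteristic 11: the vector `u` (helper879)
-/

set_option autoImplicit false
set_option maxRecDepth 100000

namespace Cfsg.Agent.H879.Nine.ME

open Cfsg Cfsg.Agent.H6.M11 Module LinearMap

theorem nat_eq {k : Type*} [Field k] [CharP k 11] {a b : ℕ} (ha : a < 11) (hb : b < 11) (h : (a : k) = b) : a = b :=
  CharP.natCast_injOn_Iio k 11 ha hb h

theorem two_ne (k : Type*) [Field k] [CharP k 11] : (2 : k) ≠ 0 := by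
  intro h
  have : ((2 : ℕ) : k) = ((0 : ℕ) : k) := by rw [Nat.cast_ofNat, h, Nat.cast_zero]
  exact absurd (nat_eq (by norm_num) (by norm_num) this) (by norm_num)

variable {G : Type*} [Group G] {v : ℕ → G} {k : Type*} [Field k] {V : Type*} [AddCommGroup V] [Module k V]
  {R : G →* End k V} {u : V}

/-- `τ u ≠ u` -/
theorem Fx.tau_ne (h : Fx v R u) (hL : Cert v certA) (h2 : (2 : k) ≠ 0) (hu : u ≠ 0) : op v R [4, 4] u ≠ u := by
  intro ht
  have k1 : op v R [4, 4, 7] u = u := (h.pos hL (B := [4, 4]) (by decide +kernel)).trans ht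
  have k2 : op v R [1, 7] u = u := (h.pos hL (B := []) (by decide +kernel)).trans (by rw [op_nil]; rfl)
  have k3 : op v R [5, 4, 1, 7] u = u := by
    rw [h.pos hL (B := [1, 7, 4, 4]) (by decide +kernel), show ([1, 7, 4, 4] : List ℕ) = [1, 7] ++ [4, 4] from rfl,
      op_append, Module.End.mul_apply, ht, k2]
  have k3t := h.neg hL (A := [5, 4, 1, 7, 4, 4]) (B := [4, 4, 7, 4, 4]) (by decide +kernel)
  rw [show ([5, 4, 1, 7, 4, 4] : List ℕ) = [5, 4, 1, 7] ++ [4, 4] from rfl,
    show ([4, 4, 7, 4, 4] : List ℕ) = [4, 4, 7] ++ [4, 4] from rfl, op_append, op_append, Module.End.mul_apply,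
    Module.End.mul_apply, ht, k3, k1] at k3t
  apply hu
  have h5 : (2 : k) • u = 0 := by rw [two_smul]; nth_rewrite 1 [k3t]; rw [neg_add_cancel]
  exact (smul_eq_zero.1 h5).resolve_left h2

/-- if `u, τ u, τ² u` are dependent then their sum is zero -/
theorem Fx.sum_zero (h : Fx v R u) (hL : Cert v certA) (h2 : (2 : k) ≠ 0) (hu : u ≠ 0) {α β γ : k}
    (hne : ¬ (α = 0 ∧ β = 0 ∧ γ = 0))
    (hr : α • u + β • op v R [4, 4] u + γ • op v R [4, 4, 4, 4] u = 0) :
    u + op v R [4, 4] u + op v R [4, 4, 4, 4] u = 0 := by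
  set a1 := op v R [4, 4] u with ha1
  set a2 := op v R [4, 4, 4, 4] u with ha2
  have t1 : op v R [4, 4] a1 = a2 := by
    rw [ha1, ha2, ← Module.End.mul_apply, ← op_append]; rfl
  have t2 : op v R [4, 4] a2 = u := by
    rw [ha2, ← Module.End.mul_apply, ← op_append]
    exact (h.pos hL (A := [4, 4, 4, 4, 4, 4]) (B := []) (by decide +kernel)).trans (by rw [op_nil]; rfl)
  have y1 : op v R [2] a1 = -a2 := by
    rw [ha1, ← Module.End.mul_apply, ← op_append]
    exact h.neg hL (A := [2, 4, 4]) (B := [4, 4, 4, 4]) (by decide +kernel)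
  have y2 : op v R [2] a2 = -a1 := by
    rw [ha2, ← Module.End.mul_apply, ← op_append]
    exact h.neg hL (A := [2, 4, 4, 4, 4]) (B := [4, 4]) (by decide +kernel)
  have r2 : α • u + β • a2 + γ • a1 = 0 := by
    have := congrArg (fun x => -(op v R [2] x)) hr
    simp only [map_add, map_smul, h.y, y1, y2, map_zero, neg_zero, neg_add, smul_neg, neg_neg] at this
    exact this
  have r1' : α • a1 + β • a2 + γ • u = 0 := by
    have := congrArg (fun x => op v R [4, 4] x) hr
    simp only [map_add, map_smul, ← ha1, t1, t2, map_zero] at this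
    exact this
  have r2' : α • a2 + β • a1 + γ • u = 0 := by
    have := congrArg (fun x => -(op v R [2] x)) r1'
    simp only [map_add, map_smul, h.y, y1, y2, map_zero, neg_zero, neg_add, smul_neg, neg_neg] at this
    exact this
  have hne12 : a1 ≠ a2 := by
    intro h12
    apply h.tau_ne hL h2 hu
    have h3 : op v R [4, 4] a1 = op v R [4, 4] a2 := by rw [h12]
    rw [t1, t2] at h3
    rw [← ha1, h12, h3]
  have e1 : (β - γ) • (a1 - a2) = 0 := by
    have : (α • u + β • a1 + γ • a2) - (α • u + β • a2 + γ • a1) = 0 := by rw [hr, r2, sub_zero]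
    rw [← this]; module
  have e2 : (α - β) • (a1 - a2) = 0 := by
    have : (α • a1 + β • a2 + γ • u) - (α • a2 + β • a1 + γ • u) = 0 := by rw [r1', r2', sub_zero]
    rw [← this]; module
  have hd : a1 - a2 ≠ 0 := sub_ne_zero.2 hne12
  have f1 : β = γ := sub_eq_zero.1 ((smul_eq_zero.1 e1).resolve_right hd)
  have f2 : α = β := sub_eq_zero.1 ((smul_eq_zero.1 e2).resolve_right hd)
  subst f2
  subst f1
  have hα : α ≠ 0 := fun h0 => hne ⟨h0, h0, h0⟩
  rw [← smul_add, ← smul_add] at hr
  exact (smul_eq_zero.1 hr).resolve_left hα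

variable [FiniteDimensional k V] {ω : k}

/-- **The vector `u`.** -/
theorem exists_u [CharP k 11] (h : Sat v) (hL : Cert v certA) (hω : IsPrimitiveRoot ω 3) (hE : op v R [0] ≠ 1)
    (hV : finrank k V = 9) :
    ∃ u : V, u ≠ 0 ∧ Fx v R u ∧ (∀ w ∈ Wt v R 1 1, ∃ c : k, w = c • u) ∧
      u + op v R [4, 4] u + op v R [4, 4, 4, 4] u = 0 := by
  have h2 : (2 : k) ≠ 0 := two_ne k
  have h3 : (3 : k) ≠ 0 := three_ne hω
  obtain ⟨f, a, α, β, ε, hε, -, hd, hCp, -, hα, hβ, hαβ, ht3, -, hβε, -⟩ := h.basic (R := R) hω h2 hE (by omega)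
  have hf : f = 1 := by omega
  have ha : a = 0 := by omega
  subst hf
  subst ha
  have hβ1 : β = 1 := by
    rcases Nat.eq_zero_or_pos β with h0 | h0
    · exfalso
      rw [h0] at hβε
      push_cast at hβε
      exact eps_ne hε (by linear_combination -hβε)
    · omega
  subst hβ1
  have hW := h.wt_zero (R := R) hω hE (by omega)
  have hW1 : finrank k (Wt v R 1 1) = 1 := by omega
  have hle : Cp v R ⊓ End.eigenspace (op v R [3]) (-1) ≤ Wt v R 1 1 := inf_le_left.trans inf_le_left
  have heq : Cp v R ⊓ End.eigenspace (op v R [3]) (-1) = Wt v R 1 1 :=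
    Submodule.eq_of_le_of_finrank_eq hle (by rw [hβ, hW1])
  obtain ⟨⟨u, hu⟩, hu0, huniq⟩ := finrank_eq_one_iff'.1 hW1
  have hu0' : u ≠ 0 := fun h0 => hu0 (Subtype.ext h0)
  have huniq' : ∀ w ∈ Wt v R 1 1, ∃ c : k, w = c • u := by
    intro w hw
    obtain ⟨c, hc⟩ := huniq ⟨w, hw⟩
    exact ⟨c, (congrArg Subtype.val hc).symm⟩
  have hu' := hu
  rw [mem_Wt, one_smul] at hu'
  have hs : op v R [3] u = -u := by
    have h4 : u ∈ Cp v R ⊓ End.eigenspace (op v R [3]) (-1) := by rw [heq]; exact hu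
    have := (Submodule.mem_inf.1 h4).2
    rwa [End.mem_eigenspace_iff, neg_one_smul] at this
  obtain ⟨c, hc⟩ := huniq' (op v R [2] u) (by
    have := h.y_mem hu
    simpa only [one_pow, one_mul] using this)
  have hc0 : c ≠ 0 := by
    rintro rfl
    rw [zero_smul] at hc
    exact hu0' (op_injective v R [2] (by rw [hc, map_zero]))
  -- traces on the fixed space of `E`
  have htE : ∀ (w : List ℕ) (d : k), op v R w u = d • u → tE v R w = d := by
    intro w d hd
    have h4 : op v R w * pE v R = d • pE v R := by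
      ext x
      rw [Module.End.mul_apply, LinearMap.smul_apply]
      obtain ⟨e, he⟩ := huniq' _ ((h.isProj_pE (R := R) hω).map_mem x)
      rw [he, map_smul, hd, smul_comm]
    rw [tE, h4, map_smul, trace_isProj (h.isProj_pE hω), hW1, Nat.cast_one, smul_eq_mul, mul_one]
  have e1 : tE v R [2, 2] = c * c := htE _ _ (by
    rw [op_cons, Module.End.mul_apply, hc, map_smul, hc, smul_smul])
  have e2 : tE v R [3, 2] = -c := htE _ _ (by
    rw [op_cons, Module.End.mul_apply, hc, map_smul, hs, smul_neg, neg_smul])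
  have e3 : c = -1 := by
    have h4 := h.tE_q (R := R) h3
    have h5 := h.tE_yy (R := R) h3
    rw [e2] at h4
    rw [e1] at h5
    have h6 : c * (c + 1) = 0 := by linear_combination h5 - h4
    have := (mul_eq_zero.1 h6).resolve_left hc0
    linear_combination this
  subst e3
  have hy : op v R [2] u = -u := by rw [hc, neg_one_smul]
  have hFx : Fx v R u := ⟨hu'.1, hu'.2, hy, hs⟩
  refine ⟨u, hu0', hFx, huniq', ?_⟩
  have t4 : tw v R [2, 2] = 1 := by
    rw [← h.tE_yy (R := R) h3, e1]; ring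
  have t2 : tw v R [3] = 1 := by rw [ht3]; push_cast; ring
  -- the fixed space of `Q8`
  set Y := op v R [2, 2] with hY
  set q := op v R [3, 2] with hq
  have hYq : Y * q = q * (Y * (Y * Y)) := by
    rw [hY, hq, ← op_append, ← op_append, ← op_append, ← op_append]
    exact h.op_eq (by decide +kernel)
  have hqq : q * q = Y * Y := by
    rw [hY, hq, ← op_append, ← op_append]
    exact h.op_eq (by decide +kernel)
  have hY4 : Y ^ 4 = 1 := by
    have h8 : op v R [2, 2, 2, 2, 2, 2, 2, 2] = 1 := by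
      rw [← op_nil v R]
      exact h.op_eq (by decide +kernel)
    rw [← h8, hY, pow_succ, pow_succ, pow_succ, pow_one, ← op_append, ← op_append, ← op_append]
    rfl
  have h4k : ((4 : ℕ) : k) ≠ 0 := by
    intro h0
    have : ((4 : ℕ) : k) = ((0 : ℕ) : k) := by rw [h0, Nat.cast_zero]
    exact absurd (nat_eq (by norm_num) (by norm_num) this) (by norm_num)
  let T : Submodule k V := fix Y ⊓ fix q
  let Pi : End k V := (2 : k)⁻¹ • ((1 + q) * av 4 Y)
  have hPi : IsProj T Pi := by
    refine ⟨fun x => ?_, fun x hx => ?_⟩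
    · have hw : Y (av 4 Y x) = av 4 Y x := av_apply_mem hY4 x
      have hx : Pi x = (2 : k)⁻¹ • (av 4 Y x + q (av 4 Y x)) := rfl
      rw [hx]
      refine Submodule.smul_mem _ _ (Submodule.mem_inf.2 ⟨mem_fix.2 ?_, mem_fix.2 ?_⟩)
      · rw [map_add, ← Module.End.mul_apply Y q, hYq]
        simp only [Module.End.mul_apply, hw]
      · rw [map_add, ← Module.End.mul_apply q q, hqq]
        simp only [Module.End.mul_apply, hw]
        rw [add_comm]
    · obtain ⟨hx1, hx2⟩ := Submodule.mem_inf.1 hx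
      rw [mem_fix] at hx1 hx2
      show (2 : k)⁻¹ • (av 4 Y x + q (av 4 Y x)) = x
      rw [av_apply_of_fix h4k hx1, hx2, half_add h2]
  have htr : 8 * LinearMap.trace k V Pi = 16 := by
    have h8 : Pi = (2 : k)⁻¹ • ((4 : k)⁻¹ • (op v R [] + op v R [2, 2] + op v R [2, 2, 2, 2] + op v R [2, 2, 2, 2, 2, 2] +
        (op v R [3, 2] + op v R [3, 2, 2, 2] + op v R [3, 2, 2, 2, 2, 2] + op v R [3, 2, 2, 2, 2, 2, 2, 2]))) := by
      have p2 : op v R [2, 2, 2, 2] = Y ^ 2 := by rw [pow_two, hY, ← op_append]; rfl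
      have p3 : op v R [2, 2, 2, 2, 2, 2] = Y ^ 3 := by rw [pow_succ, ← p2, hY, ← op_append]; rfl
      have p4 : op v R [3, 2, 2, 2] = q * Y := by rw [hY, hq, ← op_append]; rfl
      have p5 : op v R [3, 2, 2, 2, 2, 2] = q * Y ^ 2 := by rw [← p2, hq, ← op_append]; rfl
      have p6 : op v R [3, 2, 2, 2, 2, 2, 2, 2] = q * Y ^ 3 := by rw [← p3, hq, ← op_append]; rfl
      rw [p2, p3, p4, p5, p6, op_nil]
      show (2 : k)⁻¹ • ((1 + q) * (((4 : ℕ) : k)⁻¹ • ∑ i ∈ Finset.range 4, Y ^ i)) = _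
      rw [Finset.sum_range_succ, Finset.sum_range_succ, Finset.sum_range_succ, Finset.sum_range_one, mul_smul_comm]
      push_cast
      congr 2
      simp only [pow_zero, pow_one, add_mul, one_mul, mul_add, mul_one]
      try abel
    have h9 := congrArg (LinearMap.trace k V) h8
    simp only [map_smul, map_add, smul_eq_mul] at h9
    change LinearMap.trace k V Pi = (2 : k)⁻¹ * ((4 : k)⁻¹ * (tw v R [] + tw v R [2, 2] + tw v R [2, 2, 2, 2] +
      tw v R [2, 2, 2, 2, 2, 2] + (tw v R [3, 2] + tw v R [3, 2, 2, 2] + tw v R [3, 2, 2, 2, 2, 2] +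
      tw v R [3, 2, 2, 2, 2, 2, 2, 2]))) at h9
    rw [h.t_2222, h.t_222222, h.t_32, h.t_3222, h.t_322222, h.t_32222222, t4, t2, tw_nil, hV] at h9
    have h4k' : (4 : k) ≠ 0 := by exact_mod_cast h4k
    rw [h9]
    push_cast
    field_simp
    norm_num
  rw [trace_isProj hPi] at htr
  have hT : finrank k T = 2 := by
    have h8 : (8 : k) ≠ 0 := by
      intro h0
      have : ((8 : ℕ) : k) = ((0 : ℕ) : k) := by push_cast; exact h0
      exact absurd (nat_eq (by norm_num) (by norm_num) this) (by norm_num)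
    have h9 : (finrank k T : k) = ((2 : ℕ) : k) := by
      apply mul_left_cancel₀ h8
      rw [htr]; push_cast; norm_num
    have h10 := Submodule.finrank_le T
    exact nat_eq (by omega) (by norm_num) h9
  -- the three vectors
  have m0 : u ∈ T := Submodule.mem_inf.2 ⟨mem_fix.2 hFx.yy, mem_fix.2 hFx.sy⟩
  have m1 : op v R [4, 4] u ∈ T := by
    refine Submodule.mem_inf.2 ⟨mem_fix.2 ?_, mem_fix.2 ?_⟩
    · rw [hY, ← Module.End.mul_apply, ← op_append]
      exact hFx.pos hL (A := [2, 2, 4, 4]) (B := [4, 4]) (by decide +kernel)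
    · rw [hq, ← Module.End.mul_apply, ← op_append]
      exact hFx.pos hL (A := [3, 2, 4, 4]) (B := [4, 4]) (by decide +kernel)
  have m2 : op v R [4, 4, 4, 4] u ∈ T := by
    refine Submodule.mem_inf.2 ⟨mem_fix.2 ?_, mem_fix.2 ?_⟩
    · rw [hY, ← Module.End.mul_apply, ← op_append]
      exact hFx.pos hL (A := [2, 2, 4, 4, 4, 4]) (B := [4, 4, 4, 4]) (by decide +kernel)
    · rw [hq, ← Module.End.mul_apply, ← op_append]
      exact hFx.pos hL (A := [3, 2, 4, 4, 4, 4]) (B := [4, 4, 4, 4]) (by decide +kernel)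
  have hdep : ¬ LinearIndependent k (![⟨u, m0⟩, ⟨_, m1⟩, ⟨_, m2⟩] : Fin 3 → T) := by
    intro hli
    have := hli.fintype_card_le_finrank
    rw [hT, Fintype.card_fin] at this
    omega
  obtain ⟨g, hg, i, hi⟩ := Fintype.not_linearIndependent_iff.1 hdep
  rw [Fin.sum_univ_three] at hg
  have hg' := congrArg Subtype.val hg
  refine hFx.sum_zero hL h2 hu0' (α := g 0) (β := g 1) (γ := g 2) ?_ hg'
  rintro ⟨h0, h1, h2'⟩
  fin_cases i
  · exact hi h0
  · exact hi h1
  · exact hi h2'

/-- the Mathieu group of degree 12 has no module of dimension 9 in characteristic 11 -/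
theorem no_twelve [CharP k 11] (h : Sat v) (hL : Cert v certA) (hB : Cert v certB) (hω : IsPrimitiveRoot ω 3)
    (hE : op v R [0] ≠ 1) (hV : finrank k V = 9) : False := by
  have h2 : (2 : k) ≠ 0 := two_ne k
  obtain ⟨u, hu0, hu, huniq, hsum⟩ := exists_u (R := R) h hL hω hE hV
  have hz : op v R [9] u ∈ Wt v R 1 1 := by
    rw [mem_Wt, one_smul, ← Module.End.mul_apply, ← Module.End.mul_apply, ← op_append, ← op_append]
    exact ⟨hu.pos hB (A := [0, 9]) (B := [9]) (by decide +kernel), hu.pos hB (A := [1, 9]) (B := [9]) (by decide +kernel)⟩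
  obtain ⟨c, hc⟩ := huniq _ hz
  have hinj : ∀ {a b : k}, a • u = b • u → a = b := by
    intro a b hab
    rw [← sub_eq_zero, ← sub_smul] at hab
    exact sub_eq_zero.1 ((smul_eq_zero.1 hab).resolve_right hu0)
  have c2 : c * c = 1 := by
    have h1 := hu.pos hB (A := [9, 9]) (B := []) (by decide +kernel)
    rw [op_cons, Module.End.mul_apply, hc, map_smul, hc, smul_smul, op_nil, Module.End.one_apply] at h1
    exact hinj (h1.trans (one_smul k u).symm)
  have c3 : -(c * c * c) = 1 := by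
    have h1 := hu.pos hB (A := [9, 2, 9, 2, 9, 2]) (B := []) (by decide +kernel)
    rw [op_cons v R 9 [2, 9, 2, 9, 2], op_cons v R 2 [9, 2, 9, 2], op_cons v R 9 [2, 9, 2], op_cons v R 2 [9, 2],
      op_cons v R 9 [2]] at h1
    simp only [Module.End.mul_apply, hu.y, map_neg, hc, map_smul, op_nil, Module.End.one_apply] at h1
    have h3 : (-(c * c * c)) • u = -(c • -(c • -(c • u))) := by module
    exact hinj ((h3.trans h1).trans (one_smul k u).symm)
  have hc1 : c = -1 := by linear_combination (-c) * c2 - c3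
  subst hc1
  have z0 : op v R [9] u = -u := by rw [hc, neg_one_smul]
  have z2 : op v R [9] (op v R [4, 4, 4, 4] u) = -op v R [4, 4, 4, 4] u := by
    rw [← Module.End.mul_apply, ← op_append]
    have h1 := hu.pos hB (A := [9, 4, 4, 4, 4]) (B := [4, 4, 4, 4, 2, 9, 2]) (by decide +kernel)
    rw [show ([9] : List ℕ) ++ [4, 4, 4, 4] = [9, 4, 4, 4, 4] from rfl, h1,
      show ([4, 4, 4, 4, 2, 9, 2] : List ℕ) = [4, 4, 4, 4] ++ ([2] ++ ([9] ++ [2])) from rfl, op_append, op_append,
      op_append, Module.End.mul_apply, Module.End.mul_apply, Module.End.mul_apply, hu.y, map_neg, z0, neg_neg, hu.y,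
      map_neg]
  have z1 : op v R [9] (op v R [4, 4] u) = -op v R [4, 4] u := by
    have h1 := congrArg (op v R [9]) hsum
    rw [map_add, map_add, z0, z2, map_zero] at h1
    have h3 : op v R [9] (op v R [4, 4] u) = u + op v R [4, 4, 4, 4] u := by
      rw [← sub_eq_zero, ← h1]; abel
    rw [h3, ← sub_eq_zero, ← hsum]; abel
  have m1 : op v R [10] (op v R [4, 4] u) = -op v R [4, 4] u := by
    rw [← z1, ← Module.End.mul_apply, ← Module.End.mul_apply, ← op_append, ← op_append]
    exact hu.pos hB (A := [10, 4, 4]) (B := [9, 4, 4]) (by decide +kernel)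
  have m3 : op v R [10, 10, 10] = 1 := by
    have h1 := hB ([10, 10, 10], [], false, []) (by decide +kernel)
    rw [← op_nil v R]
    unfold op
    rw [h1]
    rfl
  have h5 := congrArg (fun f : End k V => f (op v R [4, 4] u)) m3
  simp only [op_cons v R 10 [10, 10], op_cons v R 10 [10], Module.End.mul_apply, m1, map_neg, neg_neg,
    Module.End.one_apply] at h5
  apply hu0
  apply op_injective v R [4, 4]
  rw [map_zero]
  have h6 : (2 : k) • op v R [4, 4] u = 0 := by rw [two_smul]; nth_rewrite 1 [← h5]; rw [neg_add_cancel]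
  exact (smul_eq_zero.1 h6).resolve_left h2

end Cfsg.Agent.H879.Nine.ME
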