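import Cfsg.Agent.H882.Del.Max

/-!
# Subgroups of the stabiliser of the roots (helper879)

`kill_roots` : `H` maximal in `E Q`, `H ≤ stabR Q v`, `P` a normal subgroup of `H`, smaller than the alternating group,
containing a non-trivial element of `altG`: impossible.
-/

set_option autoImplicit false
set_option linter.unusedSectionVars false

namespace Cfsg.Agent.H879.Nine.ME

open QuadraticMap hiding proj
open Cfsg.Agent.LieClassical.OrthCore Cfsg.Agent.LieClassical.OrthTrans Cfsg.Agent.LieClassical.OrthFinite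
open Cfsg.Agent.H882.Ten Cfsg.Agent.H882.Del

variable {F : Type*} [Field F] {V : Type*} [AddCommGroup V] [Module F V]
variable {ι : Type*} [Fintype ι] [DecidableEq ι] {v : ι → V} {Q : QuadraticForm F V} {a : F}
variable [Finite F] (S : Sys F v) (hg : Gr Q v a) (h2 : (2 : F) ≠ 0) (hG : Good Q)

include S hg h2

theorem SG_le_stabR : SG F v ≤ stabR Q v := fun _ hg' =>
  mem_stabR_of (SG_le_O S hg h2 hg') (fun _ hx => SG_map_rts hg' hx) (fun _ hx => SG_map_rts (inv_mem hg') hx)

include hG

theorem kill_roots (h3 : (3 : F) ≠ 0) (h6 : 6 ≤ Fintype.card ι) {H P : Subgroup (V ≃ₗ[F] V)}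
    (hH : Cfsg.Geo.IsMaximalIn (E Q) H) (hHR : H ≤ stabR Q v) (hn : ∀ h ∈ H, ∀ x ∈ P, h * x * h⁻¹ ∈ P)
    [Finite P] (hc : Nat.card P < Nat.card (alternatingGroup ι)) {g : V ≃ₗ[F] V} (hgP : g ∈ P) (hg1 : g ≠ 1)
    (hgA : g ∈ altG S) : False := by
  have hK : stabR Q v ⊓ E Q = H := by
    rcases hH.2 (stabR Q v ⊓ E Q) (le_inf hHR hH.1.le) inf_le_right with h | h
    · exact h
    · exact absurd (inf_eq_right.1 h) (not_E_le_stabR S h2 hG h3 h6)
  have hAH : altG S ≤ H := by
    rw [← hK]
    exact le_inf ((altG_le_SG S).trans (SG_le_stabR S hg h2)) (altG_le_E S hg h2 hG (by omega))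
  let f : alternatingGroup ι →* (V ≃ₗ[F] V) := S.perm.comp (alternatingGroup ι).subtype
  have hf : ∀ σ, f σ ∈ altG S := fun σ => ⟨σ, σ.2, rfl⟩
  have hN : (P.comap f).Normal := by
    constructor
    intro n hn' g
    rw [Subgroup.mem_comap, map_mul, map_mul, map_inv]
    exact hn _ (hAH (hf g)) _ hn'
  have hs : IsSimpleGroup (alternatingGroup ι) :=
    alternatingGroup.isSimpleGroup (by rw [Nat.card_eq_fintype_card]; omega)
  have hinj : Function.Injective f :=
    (S.perm_injective (by omega)).comp Subtype.val_injective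
  rcases hs.eq_bot_or_eq_top_of_normal _ hN with h | h
  · obtain ⟨σ, hσ, rfl⟩ := hgA
    have h1 : (⟨σ, hσ⟩ : alternatingGroup ι) ∈ P.comap f := hgP
    rw [h, Subgroup.mem_bot] at h1
    have h3 : σ = 1 := congrArg Subtype.val h1
    exact hg1 (by rw [h3]; exact map_one _)
  · have h1 : ∀ σ : alternatingGroup ι, f σ ∈ P := by
      intro σ
      have : σ ∈ P.comap f := by rw [h]; trivial
      exact this
    have h4 := Nat.card_le_card_of_injective (fun σ => (⟨f σ, h1 σ⟩ : P)) (fun σ τ h => hinj (congrArg Subtype.val h))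
    omega

end Cfsg.Agent.H879.Nine.ME
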