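import Cfsg.Agent.H879.Nine.MECert
import Cfsg.Agent.H879.Nine.MERoots

/-!
# The vectors `w_d` (helper879)
-/

set_option autoImplicit false
set_option maxRecDepth 100000

namespace Cfsg.Agent.H879.Nine.ME

open Cfsg Cfsg.Agent.H6.M11 Cfsg.Agent.H882.Del Module LinearMap QuadraticMap

variable {G : Type*} [Group G] {v : ℕ → G} {k : Type*} [Field k] {V : Type*} [AddCommGroup V] [Module k V]
  {R : G →* End k V} {u : V}

variable (v R u) in
/-- the vectors -/
noncomputable def wv (d : ℕ) : V := if d = 0 then 0 else op v R (gw d) u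

theorem wv_zero : wv v R u 0 = 0 := if_pos rfl

theorem wv_ne {d : ℕ} (hd : d ≠ 0) : wv v R u d = op v R (gw d) u := if_neg hd

theorem wv_seven : wv v R u 7 = u := by
  rw [wv_ne (by norm_num)]
  show op v R [] u = u
  rw [op_nil]; rfl

theorem Fx.rel (hsum : u + op v R [4, 4] u + op v R [4, 4, 4, 4] u = 0)
    {h : List ℕ} {A B C : V} (h1 : op v R h u = A) (h2 : op v R (h ++ [4, 4]) u = B)
    (h3 : op v R (h ++ [4, 4, 4, 4]) u = -C) : B = C - A := by
  have h4 := congrArg (op v R h) hsum
  rw [map_add, map_add, map_zero, ← Module.End.mul_apply, ← Module.End.mul_apply, ← op_append, ← op_append, h1, h2,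
    h3] at h4
  rw [← sub_eq_zero, ← h4]; abel

theorem Fx.x_step (hu : Fx v R u) (hL : Cert v certA) (hsum : u + op v R [4, 4] u + op v R [4, 4, 4, 4] u = 0)
    {e : ℕ} (d : ℕ) (hd : d ≠ 0) (he : e ≠ 0)
    (h1 : has certA (hx e) (gw 1) false = true) (h2 : has certA (hx e ++ [4, 4]) ([5] ++ gw d) false = true)
    (h3 : has certA (hx e ++ [4, 4, 4, 4]) (gw e) true = true) :
    op v R [5] (wv v R u d) = wv v R u e - wv v R u 1 := by
  rw [wv_ne hd, wv_ne he, wv_ne one_ne_zero, ← Module.End.mul_apply, ← op_append]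
  exact Fx.rel hsum (hu.pos hL h1) (hu.pos hL h2) (hu.neg hL h3)

theorem Fx.t_step (hu : Fx v R u) (hL : Cert v certA) (hsum : u + op v R [4, 4] u + op v R [4, 4, 4, 4] u = 0)
    {e : ℕ} (d : ℕ) (hd : d ≠ 0) (he : e ≠ 0)
    (h1 : has certA (ht d) (gw 7) false = true) (h2 : has certA (ht d ++ [4, 4]) ([8] ++ gw d) false = true)
    (h3 : has certA (ht d ++ [4, 4, 4, 4]) (gw e) true = true) :
    op v R [8] (wv v R u d) = wv v R u e - wv v R u 7 := by
  rw [wv_ne hd, wv_ne he, wv_ne (show (7 : ℕ) ≠ 0 by norm_num), ← Module.End.mul_apply, ← op_append]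
  exact Fx.rel hsum (hu.pos hL h1) (hu.pos hL h2) (hu.neg hL h3)

theorem Fx.x_w (hu : Fx v R u) (hL : Cert v certA) (hsum : u + op v R [4, 4] u + op v R [4, 4, 4, 4] u = 0)
    {d : ℕ} (hd : d < 11) : op v R [5] (wv v R u d) = wv v R u ((d + 1) % 11) - wv v R u 1 := by
  interval_cases d
  · show op v R [5] (wv v R u 0) = wv v R u 1 - wv v R u 1
    rw [wv_zero, map_zero, sub_self]
  · exact hu.x_step hL hsum 1 (by norm_num) (by norm_num) (by decide +kernel) (by decide +kernel) (by decide +kernel)
  · exact hu.x_step hL hsum 2 (by norm_num) (by norm_num) (by decide +kernel) (by decide +kernel) (by decide +kernel)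
  · exact hu.x_step hL hsum 3 (by norm_num) (by norm_num) (by decide +kernel) (by decide +kernel) (by decide +kernel)
  · exact hu.x_step hL hsum 4 (by norm_num) (by norm_num) (by decide +kernel) (by decide +kernel) (by decide +kernel)
  · exact hu.x_step hL hsum 5 (by norm_num) (by norm_num) (by decide +kernel) (by decide +kernel) (by decide +kernel)
  · exact hu.x_step hL hsum 6 (by norm_num) (by norm_num) (by decide +kernel) (by decide +kernel) (by decide +kernel)
  · exact hu.x_step hL hsum 7 (by norm_num) (by norm_num) (by decide +kernel) (by decide +kernel) (by decide +kernel)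
  · exact hu.x_step hL hsum 8 (by norm_num) (by norm_num) (by decide +kernel) (by decide +kernel) (by decide +kernel)
  · exact hu.x_step hL hsum 9 (by norm_num) (by norm_num) (by decide +kernel) (by decide +kernel) (by decide +kernel)
  · show op v R [5] (wv v R u 10) = wv v R u 0 - wv v R u 1
    rw [wv_zero, zero_sub, wv_ne (show (10 : ℕ) ≠ 0 by norm_num), wv_ne one_ne_zero, ← Module.End.mul_apply,
      ← op_append]
    exact hu.neg hL (by decide +kernel)

theorem Fx.t_w (hu : Fx v R u) (hL : Cert v certA) (hsum : u + op v R [4, 4] u + op v R [4, 4, 4, 4] u = 0)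
    {d : ℕ} (hd : d < 11) : op v R [8] (wv v R u d) = wv v R u (tp d) - wv v R u 7 := by
  interval_cases d
  · show op v R [8] (wv v R u 0) = wv v R u 7 - wv v R u 7
    rw [wv_zero, map_zero, sub_self]
  · exact hu.t_step hL hsum 1 (by norm_num) (by decide) (by decide +kernel) (by decide +kernel) (by decide +kernel)
  · exact hu.t_step hL hsum 2 (by norm_num) (by decide) (by decide +kernel) (by decide +kernel) (by decide +kernel)
  · exact hu.t_step hL hsum 3 (by norm_num) (by decide) (by decide +kernel) (by decide +kernel) (by decide +kernel)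
  · exact hu.t_step hL hsum 4 (by norm_num) (by decide) (by decide +kernel) (by decide +kernel) (by decide +kernel)
  · exact hu.t_step hL hsum 5 (by norm_num) (by decide) (by decide +kernel) (by decide +kernel) (by decide +kernel)
  · exact hu.t_step hL hsum 6 (by norm_num) (by decide) (by decide +kernel) (by decide +kernel) (by decide +kernel)
  · show op v R [8] (wv v R u 7) = wv v R u 0 - wv v R u 7
    rw [wv_zero, zero_sub, wv_ne (show (7 : ℕ) ≠ 0 by norm_num), ← Module.End.mul_apply, ← op_append]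
    exact hu.neg hL (by decide +kernel)
  · exact hu.t_step hL hsum 8 (by norm_num) (by decide) (by decide +kernel) (by decide +kernel) (by decide +kernel)
  · exact hu.t_step hL hsum 9 (by norm_num) (by decide) (by decide +kernel) (by decide +kernel) (by decide +kernel)
  · exact hu.t_step hL hsum 10 (by norm_num) (by decide) (by decide +kernel) (by decide +kernel) (by decide +kernel)

theorem Fx.e_w (hu : Fx v R u) (hL : Cert v certA) {d : ℕ} (hd : d < 11) :
    op v R [0] (wv v R u d) = wv v R u (ep d) := by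
  have h : ∀ e : ℕ, d ≠ 0 → e ≠ 0 → has certA ([0] ++ gw d) (gw e) false = true →
      op v R [0] (wv v R u d) = wv v R u e := by
    intro e hd he hh
    rw [wv_ne hd, wv_ne he, ← Module.End.mul_apply, ← op_append]
    exact hu.pos hL hh
  interval_cases d
  · show op v R [0] (wv v R u 0) = wv v R u 0
    rw [wv_zero, map_zero]
  · exact h 9 (by norm_num) (by norm_num) (by decide +kernel)
  · exact h 8 (by norm_num) (by norm_num) (by decide +kernel)
  · exact h 6 (by norm_num) (by norm_num) (by decide +kernel)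
  · exact h 3 (by norm_num) (by norm_num) (by decide +kernel)
  · exact h 2 (by norm_num) (by norm_num) (by decide +kernel)
  · exact h 4 (by norm_num) (by norm_num) (by decide +kernel)
  · exact h 7 (by norm_num) (by norm_num) (by decide +kernel)
  · exact h 5 (by norm_num) (by norm_num) (by decide +kernel)
  · exact h 10 (by norm_num) (by norm_num) (by decide +kernel)
  · exact h 1 (by norm_num) (by norm_num) (by decide +kernel)

/-- powers of `x` -/
theorem Fx.x_pow (hu : Fx v R u) (hL : Cert v certA) (hsum : u + op v R [4, 4] u + op v R [4, 4, 4, 4] u = 0)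
    (n d : ℕ) (hd : d < 11) :
    op v R (List.replicate n 5) (wv v R u d) = wv v R u ((d + n) % 11) - wv v R u (n % 11) := by
  induction n with
  | zero =>
    rw [List.replicate_zero, op_nil, Nat.add_zero, Nat.mod_eq_of_lt hd, Nat.zero_mod, wv_zero, sub_zero]
    rfl
  | succ n ih =>
    rw [List.replicate_succ, op_cons, Module.End.mul_apply, ih, map_sub, hu.x_w hL hsum (Nat.mod_lt _ (by norm_num)),
      hu.x_w hL hsum (Nat.mod_lt _ (by norm_num)), sub_sub_sub_cancel_right, Nat.mod_add_mod, Nat.mod_add_mod,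
      Nat.add_assoc]

/-! ### the roots -/

variable (v R u) in
/-- the system -/
noncomputable def vv (i : Fin 10) : V := wv v R u (i.1 + 1)

theorem mem_rts {x : V} (hy : x ∈ rts k (vv v R u)) : ∃ i j : ℕ, i < 11 ∧ j < 11 ∧ i ≠ j ∧
    x = wv v R u i - wv v R u j := by
  rcases hy with ⟨i, ε, hε, rfl⟩ | ⟨i, j, hij, rfl⟩
  · have hi := i.2
    rcases hε with rfl | rfl
    · exact ⟨i.1 + 1, 0, by omega, by norm_num, by omega, by rw [wv_zero, sub_zero, one_smul]; rfl⟩
    · exact ⟨0, i.1 + 1, by norm_num, by omega, by omega, by rw [wv_zero, zero_sub, neg_one_smul]; rfl⟩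
  · have hi := i.2
    have hj := j.2
    exact ⟨i.1 + 1, j.1 + 1, by omega, by omega, fun h => hij (Fin.ext (by omega)), rfl⟩

theorem rts_of {i j : ℕ} (hi : i < 11) (hj : j < 11) (hij : i ≠ j) :
    wv v R u i - wv v R u j ∈ rts k (vv v R u) := by
  rcases Nat.eq_zero_or_pos i with rfl | hi0
  · refine Or.inl ⟨⟨j - 1, by omega⟩, -1, Or.inr rfl, ?_⟩
    rw [wv_zero, zero_sub, neg_one_smul, vv]
    show _ = -wv v R u (j - 1 + 1)
    rw [Nat.sub_add_cancel (by omega)]
  · rcases Nat.eq_zero_or_pos j with rfl | hj0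
    · refine Or.inl ⟨⟨i - 1, by omega⟩, 1, Or.inl rfl, ?_⟩
      rw [wv_zero, sub_zero, one_smul, vv]
      show _ = wv v R u (i - 1 + 1)
      rw [Nat.sub_add_cancel (by omega)]
    · refine Or.inr ⟨⟨i - 1, by omega⟩, ⟨j - 1, by omega⟩, fun h => hij ?_, ?_⟩
      · have := congrArg Fin.val h
        simp only at this
        omega
      · show _ = wv v R u (i - 1 + 1) - wv v R u (j - 1 + 1)
        rw [Nat.sub_add_cancel (by omega), Nat.sub_add_cancel (by omega)]

theorem tp_lt {d : ℕ} (hd : d < 11) : tp d < 11 := by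
  have h : ∀ d : Fin 11, tp d < 11 := by decide
  exact h ⟨d, hd⟩

theorem tp_ne {d e : ℕ} (hd : d < 11) (he : e < 11) (h : d ≠ e) : tp d ≠ tp e := by
  have h' : ∀ d e : Fin 11, (d : ℕ) ≠ e → tp d ≠ tp e := by decide
  exact h' ⟨d, hd⟩ ⟨e, he⟩ h

theorem Fx.rts_x (hu : Fx v R u) (hL : Cert v certA) (hsum : u + op v R [4, 4] u + op v R [4, 4, 4, 4] u = 0) {x : V}
    (hy : x ∈ rts k (vv v R u)) : op v R [5] x ∈ rts k (vv v R u) := by
  obtain ⟨i, j, hi, hj, hij, rfl⟩ := mem_rts hy
  rw [map_sub, hu.x_w hL hsum hi, hu.x_w hL hsum hj, sub_sub_sub_cancel_right]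
  exact rts_of (Nat.mod_lt _ (by norm_num)) (Nat.mod_lt _ (by norm_num)) (by omega)

theorem Fx.rts_t (hu : Fx v R u) (hL : Cert v certA) (hsum : u + op v R [4, 4] u + op v R [4, 4, 4, 4] u = 0) {x : V}
    (hy : x ∈ rts k (vv v R u)) : op v R [8] x ∈ rts k (vv v R u) := by
  obtain ⟨i, j, hi, hj, hij, rfl⟩ := mem_rts hy
  rw [map_sub, hu.t_w hL hsum hi, hu.t_w hL hsum hj, sub_sub_sub_cancel_right]
  exact rts_of (tp_lt hi) (tp_lt hj) (tp_ne hi hj hij)

/-- every root is conjugate to `u` -/
theorem Fx.root_eq (hu : Fx v R u) (hL : Cert v certA) (hsum : u + op v R [4, 4] u + op v R [4, 4, 4, 4] u = 0) {x : V}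
    (hy : x ∈ rts k (vv v R u)) : ∃ w, x = op v R w u := by
  obtain ⟨i, j, hi, hj, hij, rfl⟩ := mem_rts hy
  have hd : (i + (11 - j)) % 11 < 11 := Nat.mod_lt _ (by norm_num)
  have hd0 : (i + (11 - j)) % 11 ≠ 0 := by omega
  refine ⟨List.replicate j 5 ++ gw ((i + (11 - j)) % 11), ?_⟩
  rw [op_append, Module.End.mul_apply, ← wv_ne hd0, hu.x_pow hL hsum _ _ hd, Nat.mod_eq_of_lt hj]
  congr 2
  omega

theorem u_mem_rts : u ∈ rts k (vv v R u) := Or.inl ⟨6, 1, Or.inl rfl, by
  rw [one_smul]
  exact (wv_seven (v := v) (R := R)).symm⟩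

/-! ### the system -/

theorem Fx.sys [FiniteDimensional k V] (hV : finrank k V = 9) (hu : Fx v R u) (hL : Cert v certA)
    (hsum : u + op v R [4, 4] u + op v R [4, 4, 4, 4] u = 0)
    (h11 : (11 : k) = 0) (hu0 : u ≠ 0) (hfix : ∀ s : V, op v R [5] s = s → op v R [8] s = s → s = 0)
    (hirr : ∀ S : Submodule k V, (∀ x ∈ S, op v R [5] x ∈ S) → (∀ x ∈ S, op v R [8] x ∈ S) → S = ⊥ ∨ S = ⊤) :
    Sys k (vv v R u) := by
  have hmem : ∀ d, d < 11 → wv v R u d ∈ Submodule.span k (Set.range (vv v R u)) := by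
    intro d hd
    rcases Nat.eq_zero_or_pos d with rfl | h0
    · rw [wv_zero]; exact Submodule.zero_mem _
    · refine Submodule.subset_span ⟨⟨d - 1, by omega⟩, ?_⟩
      show wv v R u (d - 1 + 1) = _
      rw [Nat.sub_add_cancel (by omega)]
  refine ⟨?_, by rw [hV]; rfl, by omega, ?_⟩
  · have s1 : ∀ x ∈ Submodule.span k (Set.range (vv v R u)), op v R [5] x ∈ Submodule.span k (Set.range (vv v R u)) := by
      intro x hx
      induction hx using Submodule.span_induction with
      | mem x hx =>
        obtain ⟨i, rfl⟩ := hx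
        show op v R [5] (wv v R u (i.1 + 1)) ∈ _
        rw [hu.x_w hL hsum (by omega)]
        exact Submodule.sub_mem _ (hmem _ (Nat.mod_lt _ (by norm_num))) (hmem _ (by norm_num))
      | zero => rw [map_zero]; exact Submodule.zero_mem _
      | add x y _ _ hx hy => rw [map_add]; exact Submodule.add_mem _ hx hy
      | smul a x _ hx => rw [map_smul]; exact Submodule.smul_mem _ _ hx
    have s2 : ∀ x ∈ Submodule.span k (Set.range (vv v R u)), op v R [8] x ∈ Submodule.span k (Set.range (vv v R u)) := by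
      intro x hx
      induction hx using Submodule.span_induction with
      | mem x hx =>
        obtain ⟨i, rfl⟩ := hx
        show op v R [8] (wv v R u (i.1 + 1)) ∈ _
        rw [hu.t_w hL hsum (by omega)]
        exact Submodule.sub_mem _ (hmem _ (tp_lt (by omega))) (hmem _ (by norm_num))
      | zero => rw [map_zero]; exact Submodule.zero_mem _
      | add x y _ _ hx hy => rw [map_add]; exact Submodule.add_mem _ hx hy
      | smul a x _ hx => rw [map_smul]; exact Submodule.smul_mem _ _ hx
    rcases hirr _ s1 s2 with h | h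
    · exfalso
      apply hu0
      have h1 := hmem 7 (by norm_num)
      rwa [h, Submodule.mem_bot, wv_seven] at h1
    · exact h
  · have hs : ∑ i, vv v R u i = wv v R u 1 + wv v R u 2 + wv v R u 3 + wv v R u 4 + wv v R u 5 + wv v R u 6 +
        wv v R u 7 + wv v R u 8 + wv v R u 9 + wv v R u 10 := by
      show ∑ i : Fin 10, wv v R u (i.1 + 1) = _
      rw [Fin.sum_univ_eq_sum_range (fun i => wv v R u (i + 1)) 10]
      simp only [Finset.sum_range_succ, Finset.sum_range_zero, zero_add]
      try norm_num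
    rw [hs]
    have hX : ∀ d, d < 11 → op v R [5] (wv v R u d) = wv v R u ((d + 1) % 11) - wv v R u 1 :=
      fun d hd => hu.x_w hL hsum hd
    have hT : ∀ d, d < 11 → op v R [8] (wv v R u d) = wv v R u (tp d) - wv v R u 7 :=
      fun d hd => hu.t_w hL hsum hd
    apply hfix
    · simp only [map_add]
      rw [hX 1 (by norm_num), hX 2 (by norm_num), hX 3 (by norm_num), hX 4 (by norm_num), hX 5 (by norm_num),
        hX 6 (by norm_num), hX 7 (by norm_num), hX 8 (by norm_num), hX 9 (by norm_num), hX 10 (by norm_num)]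
      norm_num only
      rw [wv_zero, ← sub_eq_zero]
      have h0 : (11 : k) • wv v R u 1 = 0 := by rw [h11, zero_smul]
      rw [← neg_eq_zero]
      refine Eq.trans ?_ h0
      module
    · simp only [map_add]
      rw [hT 1 (by norm_num), hT 2 (by norm_num), hT 3 (by norm_num), hT 4 (by norm_num), hT 5 (by norm_num),
        hT 6 (by norm_num), hT 7 (by norm_num), hT 8 (by norm_num), hT 9 (by norm_num), hT 10 (by norm_num)]
      simp only [tp]
      rw [wv_zero, ← sub_eq_zero]
      have h0 : (11 : k) • wv v R u 7 = 0 := by rw [h11, zero_smul]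
      rw [← neg_eq_zero]
      refine Eq.trans ?_ h0
      module

variable {Q : QuadraticForm k V}

theorem Fx.q_w (hQ : ∀ g x, Q (R g x) = Q x) {d : ℕ} (hd : d ≠ 0) : Q (wv v R u d) = Q u := by
  rw [wv_ne hd]
  exact hQ _ _

theorem polar_inv (hQ : ∀ g x, Q (R g x) = Q x) (w : List ℕ) (x y : V) :
    QuadraticMap.polar Q (op v R w x) (op v R w y) = QuadraticMap.polar Q x y := by
  unfold QuadraticMap.polar
  rw [← map_add]
  unfold op
  rw [hQ, hQ, hQ]

theorem Fx.gr (hu : Fx v R u) (hL : Cert v certA)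
    (hsum : u + op v R [4, 4] u + op v R [4, 4, 4, 4] u = 0) (hQ : ∀ g x, Q (R g x) = Q x) :
    Gr Q (vv v R u) (Q u) := by
  have h1 : ∀ e, 2 ≤ e → e ≤ 10 → QuadraticMap.polar Q (wv v R u e) (wv v R u 1) = Q u := by
    intro e he he'
    have h := hu.x_w hL hsum (d := e - 1) (by omega)
    rw [show (e - 1 + 1) % 11 = e by omega] at h
    have h3 : Q (wv v R u e - wv v R u 1) = Q u := by
      rw [← h]
      unfold op
      rw [hQ, Fx.q_w hQ (by omega)]
    rw [sub_eq_add_neg, QuadraticMap.map_add Q, QuadraticMap.map_neg, QuadraticMap.polar_neg_right,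
      Fx.q_w hQ (by omega), Fx.q_w hQ one_ne_zero] at h3
    linear_combination -h3
  have h11' : QuadraticMap.polar Q (wv v R u 1) (wv v R u 1) = 2 * Q u := by
    rw [QuadraticMap.polar_self, Fx.q_w hQ one_ne_zero, two_smul, two_mul]
  have h4 : ∀ i, 1 ≤ i → ∀ j, i < j → j ≤ 10 → QuadraticMap.polar Q (wv v R u i) (wv v R u j) = Q u := by
    intro i hi
    induction i, hi using Nat.le_induction with
    | base =>
      intro j hj hj'
      rw [QuadraticMap.polar_comm]
      exact h1 j (by omega) hj'
    | succ i hi ih =>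
      intro j hj hj'
      have h5 := ih (j - 1) (by omega) (by omega)
      rw [← polar_inv hQ [5] (wv v R u i) (wv v R u (j - 1)), hu.x_w hL hsum (by omega), hu.x_w hL hsum (by omega),
        show (i + 1) % 11 = i + 1 by omega, show (j - 1 + 1) % 11 = j by omega, QuadraticMap.polar_sub_left,
        QuadraticMap.polar_sub_right, QuadraticMap.polar_sub_right, h11', h1 (i + 1) (by omega) (by omega),
        QuadraticMap.polar_comm Q (wv v R u 1) (wv v R u j), h1 j (by omega) hj'] at h5
      linear_combination h5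
  intro i j hij
  have hi := i.2
  have hj := j.2
  have hne : i.1 ≠ j.1 := fun h => hij (Fin.ext h)
  show QuadraticMap.polar Q (wv v R u (i.1 + 1)) (wv v R u (j.1 + 1)) = Q u
  rcases Nat.lt_or_gt_of_ne hne with h | h
  · exact h4 _ (by omega) _ (by omega) (by omega)
  · rw [QuadraticMap.polar_comm]
    exact h4 _ (by omega) _ (by omega) (by omega)

end Cfsg.Agent.H879.Nine.ME
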