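import Cfsg.Agent.H879.Nine.MECore
import Cfsg.Agent.H879.Nine.MEVec
import Cfsg.Agent.H879.Nine.Ctx
import Cfsg.Agent.H882.Del.Syl
import Cfsg.Agent.H882.Del.M11Grp

/-!
# The Mathieu group of degree 11 in `Ω₉(q)` (helper879)

* `dvd_eleven` : `M₁₁`, `M₁₂` in dimension at most 9 with real traces: `p = 11`;
* `m11_kill` : `M₁₁` is not maximal in `Ω₉(q)`, `p = 11` (it is contained in `A₁₁`).
-/

set_option autoImplicit false
set_option linter.unusedSectionVars false
set_option maxRecDepth 100000

namespace Cfsg.Agent.H879.Nine.ME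

open Matrix Module Cfsg Cfsg.Geo Cfsg.Agent.H915.LD Cfsg.Agent.H6.M11
open QuadraticMap hiding proj
open Cfsg.Agent.LieClassical.OrthCore Cfsg.Agent.LieClassical.OrthTrans Cfsg.Agent.LieClassical.OrthFinite

universe u

variable {ι : Type} [Fintype ι] [DecidableEq ι] {F : Type u} [Field F] {P : Subgroup (GL ι F)}

/-! ### letters in `P` -/

theorem rep_self (g : P) (x : ι → F) : rep P F g x = ((g : GL ι F) : Matrix ι ι F) *ᵥ x := by
  rw [rep_apply, Matrix.toLin'_apply]
  congr 1

/-- extension of scalars of a vector -/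
def jv (K : Type*) [Field K] [Algebra F K] (x : ι → F) : ι → K := fun i => algebraMap F K (x i)

variable {K : Type*} [Field K] [Algebra F K]

theorem jv_injective : Function.Injective (jv (ι := ι) (F := F) K) := by
  intro x y h
  funext i
  exact (algebraMap F K).injective (congrFun h i)

theorem jv_zero : jv (ι := ι) (F := F) K 0 = 0 := by
  funext i
  exact map_zero _

theorem jv_neg (x : ι → F) : jv K (-x) = -jv K x := by
  funext i
  exact map_neg _ _

theorem jv_add (x y : ι → F) : jv K (x + y) = jv K x + jv K y := by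
  funext i
  exact map_add _ _ _

theorem rep_jv (g : P) (x : ι → F) : rep P K g (jv K x) = jv K (rep P F g x) := by
  rw [rep_self, rep_apply, Matrix.toLin'_apply]
  funext i
  show _ = algebraMap F K ((((g : GL ι F) : Matrix ι ι F) *ᵥ x) i)
  simp only [Matrix.mulVec, dotProduct, Matrix.map_apply, map_sum, map_mul, jv]

theorem op_jv (v : ℕ → P) (w : List ℕ) (x : ι → F) : op v (rep P K) w (jv K x) = jv K (op v (rep P F) w x) :=
  rep_jv _ _

/-- the element of order 11 in dimension at most 9 with real traces -/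
theorem dvd_eleven [Finite F] (p : ℕ) [hp : Fact p.Prime] [CharP F p] {v : ℕ → P} (hv : Sat v) (h5 : v 5 ≠ 1)
    (hsd : SD P) (hn : Fintype.card ι ≤ 9) : p = 11 := by
  by_contra h11
  have hck : CharP (AlgebraicClosure F) p := charP_of_injective_algebraMap (algebraMap F _).injective p
  obtain ⟨ζ, hζ⟩ := exists_root (AlgebraicClosure F) 11 (cast_ne _ hp.out (by norm_num) h11)
  obtain ⟨m, a, b, ha, hb, hm, hd, t1, t10⟩ := hv.eigen (R := rep P (AlgebraicClosure F)) hζ
  rw [Module.finrank_fintype_fun_eq_card] at hd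
  -- real traces
  have hinv : (ev v [5])⁻¹ = ev v [5, 5, 5, 5, 5, 5, 5, 5, 5, 5] := by
    rw [inv_eq_iff_mul_eq_one, ← ev_append, ← ev_nil v]
    exact hv.base (by decide +kernel)
  have hreal : tw v (rep P (AlgebraicClosure F)) [5, 5, 5, 5, 5, 5, 5, 5, 5, 5] =
      tw v (rep P (AlgebraicClosure F)) [5] := by
    rw [tw_rep, tw_rep, ← hinv]
    congr 1
    exact hsd _ (ev v [5]).2
  have hab : (a : AlgebraicClosure F) = b := by
    rw [t1, t10] at hreal
    set S := ζ + ζ ^ 3 + ζ ^ 4 + ζ ^ 5 + ζ ^ 9 with hS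
    set S' := ζ ^ 2 + ζ ^ 6 + ζ ^ 7 + ζ ^ 8 + ζ ^ 10 with hS'
    have hz := H6.M11.sum_zero hζ
    have h0 := hζ.pow_eq_one
    have e1 : ((a : AlgebraicClosure F) - b) * (S - S') = 0 := by linear_combination -hreal
    refine sub_eq_zero.1 ((mul_eq_zero.1 e1).resolve_right ?_)
    intro h1
    have h2 : S + S' = -1 := by linear_combination hz
    have h11k : (11 : AlgebraicClosure F) ≠ 0 := by
      have := (hζ.neZero').out
      simpa using this
    have q : ∀ m : ℕ, ζ ^ m = ζ ^ (m % 11) := fun m => pow_eq_pow_mod m h0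
    have h3 : S * S' = 3 := by
      rw [hS, hS']
      linear_combination (5 + 2 * ζ + 2 * ζ ^ 2 + ζ ^ 3 + 2 * ζ ^ 4 + ζ ^ 5 + ζ ^ 6 + ζ ^ 8) * h0 + 2 * hz
    apply h11k
    have h4 : (S - S') ^ 2 = -11 := by
      have : (S - S') ^ 2 = (S + S') ^ 2 - 4 * (S * S') := by ring
      rw [this, h2, h3]; norm_num
    rw [h1] at h4
    linear_combination h4
  have hab2 : a + b ≤ 1 := by omega
  have hab3 : a = 0 ∧ b = 0 := by
    rcases Nat.eq_zero_or_pos a with h0 | h0
    · rcases Nat.eq_zero_or_pos b with h1 | h1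
      · exact ⟨h0, h1⟩
      · exfalso
        obtain rfl : b = 1 := by omega
        rw [h0, Nat.cast_zero, Nat.cast_one] at hab
        exact zero_ne_one hab
    · exfalso
      obtain rfl : a = 1 := by omega
      obtain rfl : b = 0 := by omega
      rw [Nat.cast_zero, Nat.cast_one] at hab
      exact one_ne_zero hab
  have htop : End.eigenspace (op v (rep P (AlgebraicClosure F)) [5]) 1 = ⊤ := by
    apply Submodule.eq_top_of_finrank_eq
    rw [hm, Module.finrank_fintype_fun_eq_card]
    omega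
  apply h5
  have h6 : op v (rep P (AlgebraicClosure F)) [5] = 1 := by
    refine LinearMap.ext fun x => ?_
    have : x ∈ End.eigenspace (op v (rep P (AlgebraicClosure F)) [5]) 1 := by rw [htop]; trivial
    rw [End.mem_eigenspace_iff, one_smul] at this
    exact this
  have h7 := rep_eq_one _ h6
  rwa [ev_cons, ev_nil, mul_one] at h7

/-! ### the vector over `F` -/

theorem exists_uF [Finite F] [CharP F 11] (h9 : Fintype.card ι = 9) {v : ℕ → P} (hv : Sat v) (hL : Cert v certA)
    (h0 : v 0 ≠ 1) :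
    ∃ u : ι → F, u ≠ 0 ∧ Fx v (rep P F) u ∧ u + op v (rep P F) [4, 4] u + op v (rep P F) [4, 4, 4, 4] u = 0 ∧
      ∀ w : ι → F, rep P F (v 0) w = w → rep P F (v 1) w = w → ∃ c : F, w = c • u := by
  have hck : CharP (AlgebraicClosure F) 11 := charP_of_injective_algebraMap (algebraMap F _).injective 11
  obtain ⟨ω, hω⟩ := exists_root (AlgebraicClosure F) 3 (cast_ne _ (by norm_num : Nat.Prime 11) Nat.prime_three (by norm_num))
  have e1 : ∀ (K : Type u) [Field K] [Algebra F K] (i : ℕ), op v (rep P K) [i] = rep P K (v i) := by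
    intro K _ _ i
    rw [op, ev_cons, ev_nil, mul_one]
  obtain ⟨u', hu0', hu', huniq, hsum⟩ := exists_u (R := rep P (AlgebraicClosure F)) hv hL hω (by
    rw [e1]
    intro h
    exact h0 (rep_eq_one _ h)) (by rw [Module.finrank_fintype_fun_eq_card, h9])
  obtain ⟨u, hu0, hfix⟩ := H879.TL.exists_fixed ({((v 0 : P) : GL ι F), ((v 1 : P) : GL ι F)} : Set (GL ι F)) hu0' (by
    intro g hg
    rcases hg with rfl | hg
    · have := hu'.e₁
      rw [e1] at this
      exact this
    · rw [Set.mem_singleton_iff] at hg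
      subst hg
      have := hu'.e₂
      rw [e1] at this
      exact this)
  have f0 : rep P F (v 0) u = u := by rw [rep_self]; exact hfix _ (Or.inl rfl)
  have f1 : rep P F (v 1) u = u := by rw [rep_self]; exact hfix _ (Or.inr rfl)
  have hW : ∀ w : ι → F, rep P F (v 0) w = w → rep P F (v 1) w = w →
      jv (AlgebraicClosure F) w ∈ Wt v (rep P (AlgebraicClosure F)) 1 1 := by
    intro w h1 h2
    rw [mem_Wt, one_smul, op_jv, op_jv, e1, e1, h1, h2]
    exact ⟨rfl, rfl⟩
  obtain ⟨c, hc⟩ := huniq _ (hW u f0 f1)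
  have hc0 : c ≠ 0 := by
    rintro rfl
    rw [zero_smul] at hc
    exact hu0 (jv_injective (hc.trans jv_zero.symm))
  refine ⟨u, hu0, ⟨by rw [e1]; exact f0, by rw [e1]; exact f1, ?_, ?_⟩, ?_, ?_⟩
  · apply jv_injective (K := AlgebraicClosure F)
    rw [← op_jv, jv_neg, hc, map_smul, hu'.y, smul_neg]
  · apply jv_injective (K := AlgebraicClosure F)
    rw [← op_jv, jv_neg, hc, map_smul, hu'.s, smul_neg]
  · apply jv_injective (K := AlgebraicClosure F)
    rw [jv_add, jv_add, ← op_jv, ← op_jv, jv_zero, hc, map_smul, map_smul, ← smul_add, ← smul_add, hsum, smul_zero]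
  · intro w h1 h2
    obtain ⟨d, hd⟩ := huniq _ (hW w h1 h2)
    obtain ⟨i, hi⟩ : ∃ i, u i ≠ 0 := by
      by_contra hno
      push Not at hno
      exact hu0 (funext hno)
    refine ⟨w i / u i, ?_⟩
    have h3 : ∀ j, algebraMap F (AlgebraicClosure F) (w j) * c = d * algebraMap F (AlgebraicClosure F) (u j) := by
      intro j
      have a1 := congrFun hd j
      have a2 := congrFun hc j
      simp only [jv, Pi.smul_apply, smul_eq_mul] at a1 a2
      rw [a1, a2]; ring
    funext j
    apply (algebraMap F (AlgebraicClosure F)).injective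
    rw [Pi.smul_apply, smul_eq_mul, map_mul, map_div₀]
    have hi' : algebraMap F (AlgebraicClosure F) (u i) ≠ 0 := by
      rw [Ne, map_eq_zero]; exact hi
    have a1 := h3 i
    have a2 := h3 j
    field_simp
    apply mul_right_cancel₀ hc0
    linear_combination (algebraMap F (AlgebraicClosure F) (u i)) * a2 - (algebraMap F (AlgebraicClosure F) (u j)) * a1

/-! ### the Sylow subgroup of order 9 -/

theorem sylow_nine [Finite F] {v : ℕ → P} (hv : Sat v) (hinj : Function.Injective fun i : Fin 9 => ev v (wE i))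
    (hcard : Nat.card P = 7920) : ∃ U : Sylow 3 P, (v 0 ∈ U ∧ v 1 ∈ U) ∧
      ∀ (K : Subgroup P), v 0 ∈ K → v 1 ∈ K → (U : Subgroup P) ≤ K := by
  have h3 : Fact (Nat.Prime 3) := ⟨Nat.prime_three⟩
  let E : Subgroup P := Subgroup.zpowers (v 0) ⊔ Subgroup.zpowers (v 1)
  have c0 : (v 0) ^ 3 = 1 := by
    have := hv.base (a := [0, 0, 0]) (b := []) (by decide +kernel)
    rw [ev_cons, ev_cons, ev_cons, ev_nil] at this
    rw [pow_succ, pow_two, mul_assoc, ← this, mul_one]
  have c1 : (v 1) ^ 3 = 1 := by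
    have := hv.base (a := [1, 1, 1]) (b := []) (by decide +kernel)
    rw [ev_cons, ev_cons, ev_cons, ev_nil] at this
    rw [pow_succ, pow_two, mul_assoc, ← this, mul_one]
  have c01 : v 0 * v 1 = v 1 * v 0 := by
    have := hv.base (a := [0, 1]) (b := [1, 0]) (by decide +kernel)
    rwa [ev_cons, ev_cons, ev_cons, ev_cons, ev_nil, mul_one, mul_one] at this
  have hp : ∀ x : P, x ^ 3 = 1 → IsPGroup 3 (Subgroup.zpowers x) := by
    rintro x hx ⟨_, n, rfl⟩
    refine ⟨1, Subtype.ext ?_⟩
    show ((x ^ n) ^ (3 ^ 1) : P) = 1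
    rw [pow_one, ← zpow_natCast, ← _root_.zpow_mul, mul_comm, _root_.zpow_mul, zpow_natCast, hx, _root_.one_zpow]
  have hE : IsPGroup 3 E := by
    refine IsPGroup.to_sup_of_normal_right' (hp _ c0) (hp _ c1) ?_
    rw [Subgroup.zpowers_le]
    refine Subgroup.mem_normalizer_iff.2 fun h => ?_
    have hcomm : ∀ h ∈ Subgroup.zpowers (v 1), v 0 * h * (v 0)⁻¹ = h := by
      rintro _ ⟨n, rfl⟩
      have : Commute (v 0) ((v 1) ^ n) := (show Commute (v 0) (v 1) from c01).zpow_right n
      rw [this.eq, mul_inv_cancel_right]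
    have hcomm' : ∀ h ∈ Subgroup.zpowers (v 1), (v 0)⁻¹ * h * (v 0) = h := by
      rintro _ ⟨n, rfl⟩
      have : Commute (v 0) ((v 1) ^ n) := (show Commute (v 0) (v 1) from c01).zpow_right n
      rw [mul_assoc, ← this.eq, inv_mul_cancel_left]
    constructor
    · intro hh
      rw [hcomm h hh]; exact hh
    · intro hh
      have := hcomm' _ hh
      have e : (v 0)⁻¹ * (v 0 * h * (v 0)⁻¹) * v 0 = h := by group
      rw [e] at this
      rw [this]; exact hh
  have m0 : v 0 ∈ E := (le_sup_left : Subgroup.zpowers (v 0) ≤ E) (Subgroup.mem_zpowers _)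
  have m1 : v 1 ∈ E := (le_sup_right : Subgroup.zpowers (v 1) ≤ E) (Subgroup.mem_zpowers _)
  have hfin : Finite P := inferInstance
  have hmem : ∀ w : List ℕ, (∀ i ∈ w, i = 0 ∨ i = 1) → ev v w ∈ E := by
    intro w hw
    induction w with
    | nil => rw [ev_nil]; exact one_mem _
    | cons i w ih =>
      rw [ev_cons]
      refine mul_mem ?_ (ih fun j hj => hw j (List.mem_cons_of_mem _ hj))
      rcases hw i List.mem_cons_self with rfl | rfl
      · exact m0
      · exact m1
  have h9 : 9 ≤ Nat.card E := by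
    have h := Nat.card_le_card_of_injective (fun i : Fin 9 => (⟨ev v (wE i), hmem _ (by
      have : ∀ i : Fin 9, ∀ j ∈ wE i, j = 0 ∨ j = 1 := by decide
      exact this i)⟩ : E)) (fun i j h => hinj (congrArg Subtype.val h))
    rwa [Nat.card_eq_fintype_card, Fintype.card_fin] at h
  obtain ⟨n, hn⟩ := IsPGroup.iff_card.1 hE
  have hn2 : 2 ≤ n := by
    by_contra hc
    have : n = 0 ∨ n = 1 := by omega
    rcases this with rfl | rfl
    · omega
    · omega
  have hidx : ¬ 3 ∣ E.index := by
    rintro ⟨k, hk⟩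
    have h1 := E.card_mul_index
    rw [hcard, hn, hk] at h1
    obtain ⟨m, rfl⟩ := Nat.exists_eq_add_of_le hn2
    have h27 : 27 ∣ 7920 := ⟨3 ^ m * k, by rw [← h1, pow_add]; ring⟩
    revert h27
    decide
  refine ⟨hE.toSylow hidx, ⟨m0, m1⟩, fun K h0 h1 => ?_⟩
  show E ≤ K
  exact sup_le ((Subgroup.zpowers_le).2 h0) ((Subgroup.zpowers_le).2 h1)

/-! ### the kill -/

/-- the permutation of `e₁` on the system -/
def σe : Equiv.Perm (Fin 10) where
  toFun i := ![8, 7, 5, 2, 1, 3, 6, 4, 9, 0] i
  invFun i := ![9, 4, 3, 5, 7, 2, 6, 1, 0, 8] i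
  left_inv := by decide
  right_inv := by decide

theorem σe_cube : σe ^ 3 = 1 := by decide

theorem σe_even : σe ∈ alternatingGroup (Fin 10) := by
  rw [Equiv.Perm.mem_alternatingGroup]
  have h := congrArg Equiv.Perm.sign σe_cube
  rw [map_pow, map_one] at h
  rcases Int.units_eq_one_or (Equiv.Perm.sign σe) with h1 | h1
  · exact h1
  · rw [h1] at h
    exact absurd h (by decide)

theorem ep_σe (i : Fin 10) : ep (i.1 + 1) = (σe i).1 + 1 := by
  revert i
  decide

/-- **`M₁₁` is not maximal in `Ω₉(q)`, `q` a power of 11.** -/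
theorem m11_kill [Fintype F] {Q : QuadraticForm F (ι → F)} {H : Subgroup (GL ι F)} (c : Ctx 11 Q H P)
    (hM : Spor.IsoM11 (Soc P)) : False := by
  have hp : Fact (Nat.Prime 11) := ⟨c.prime⟩
  have hch := c.charP
  have hC := c.core
  obtain ⟨e0⟩ := hM
  let e : P ≃* Spor.M11 := c.soc.trans e0
  let v : ℕ → P := fun i => e.symm (v11 i)
  have hv : Sat v := sat_11.map e.symm.toMonoidHom
  have hL : Cert v certA := certA_11.map e.symm.toMonoidHom
  have hev : ∀ w, ev v w = e.symm (ev v11 w) := fun w => (map_ev v11 e.symm.toMonoidHom w).symm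
  have hv0 : v 0 ≠ 1 := by
    intro h0
    apply v11_zero_ne
    have := congrArg e h0
    rwa [MulEquiv.apply_symm_apply, map_one] at this
  have hinj : Function.Injective fun i : Fin 9 => ev v (wE i) := by
    intro i j hij
    simp only [hev] at hij
    exact wE_injective (e.symm.injective hij)
  have hcard : Nat.card P = 7920 := by
    rw [Nat.card_congr e.toEquiv]
    exact H882.Grp.card11
  have hgen : Subgroup.closure ({v 5, v 8} : Set P) = ⊤ := by
    have h1 : (Subgroup.closure ({v11 5, v11 8} : Set Spor.M11)).map e.symm.toMonoidHom =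
        Subgroup.closure ({v 5, v 8} : Set P) := by
      rw [MonoidHom.map_closure, Set.image_pair]
      rfl
    rw [← h1, closure_11, ← MonoidHom.range_eq_map]
    exact MonoidHom.range_eq_top.2 e.symm.surjective
  obtain ⟨u, hu0, hu, hsum, huniq⟩ := exists_uF c.nine hv hL hv0
  have hop : ∀ i, op v (rep P F) [i] = rep P F (v i) := by
    intro i
    rw [op, ev_cons, ev_nil, mul_one]
  have hfinP : Finite P := c.finite_P
  -- induction over the generators
  have hind : ∀ (M : P → Prop), M 1 → (∀ g, M g → M (v 5 * g)) → (∀ g, M g → M (v 8 * g)) → ∀ g, M g := by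
    intro M h1 h5 h8 g
    have hg : g ∈ Submonoid.closure ({v 5, v 8} : Set P) := by
      rw [← Subgroup.closure_toSubmonoid_of_finite, hgen]
      trivial
    induction hg using Submonoid.closure_induction_left with
    | one => exact h1
    | mul_left x hx y _ ih =>
      rcases hx with rfl | hx
      · exact h5 _ ih
      · rw [Set.mem_singleton_iff] at hx
        subst hx
        exact h8 _ ih
  have hmul : ∀ (g h : P) (x : ι → F), rep P F (g * h) x = rep P F g (rep P F h x) := by
    intro g h x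
    rw [map_mul]; rfl
  have hQ : ∀ (g : P) (x : ι → F), Q (rep P F g x) = Q x := by
    intro g x
    rw [rep_self]
    exact isometry_of_mem (c.max.1.le (c.res.le g.2)) x
  have hfin : finrank F (ι → F) = 9 := by rw [Module.finrank_fintype_fun_eq_card, c.nine]
  have h11 : (11 : F) = 0 := by
    have := CharP.cast_eq_zero F 11
    exact_mod_cast this
  have h3 : (3 : F) ≠ 0 := by
    intro h
    have : ((3 : ℕ) : F) = ((0 : ℕ) : F) := by rw [Nat.cast_ofNat, h, Nat.cast_zero]
    exact absurd (nat_eq (by norm_num) (by norm_num) this) (by norm_num)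
  have hS : H882.Del.Sys F (vv v (rep P F) u) := by
    refine hu.sys hfin hL hsum h11 hu0 ?_ ?_
    · intro s h5 h8
      rw [hop] at h5 h8
      by_contra hs
      refine H879.TL.no_fixed_vector hC hs fun g hg => ?_
      rw [← rep_self (P := P) ⟨g, hg⟩]
      refine hind (fun g => rep P F g s = s) ?_ ?_ ?_ _
      · rw [map_one]; rfl
      · intro g h
        rw [hmul, h, h5]
      · intro g h
        rw [hmul, h, h8]
    · intro S h5 h8
      rw [hop] at h5 h8
      refine invariant F hC S ?_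
      refine hind (fun g => ∀ x ∈ S, rep P F g x ∈ S) ?_ ?_ ?_
      · intro x hx
        rw [map_one]; exact hx
      · intro g h x hx
        rw [hmul]; exact h5 _ (h x hx)
      · intro g h x hx
        rw [hmul]; exact h8 _ (h x hx)
  have hG : Good Q := H883.Bridge.good_of_card c.nd (by rw [c.nine]; norm_num)
  have hgr := Fx.gr hu hL hsum hQ
  have ha : Q u ≠ 0 := H882.Del.a_ne hS hgr c.nd
  -- the roots
  have hroot : ∀ g : P, rep P F g u ∈ H882.Del.rts F (vv v (rep P F) u) := by
    refine hind (fun g => rep P F g u ∈ H882.Del.rts F (vv v (rep P F) u)) ?_ ?_ ?_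
    · rw [map_one]; exact u_mem_rts
    · intro g h
      rw [hmul, ← hop]; exact hu.rts_x hL hsum h
    · intro g h
      rw [hmul, ← hop]; exact hu.rts_t hL hsum h
  -- the lines
  obtain ⟨U, ⟨hU0, hU1⟩, hUK⟩ := sylow_nine hv hinj hcard
  have h3f : Fact (Nat.Prime 3) := ⟨Nat.prime_three⟩
  have hUfix : ∀ x ∈ U, ((x : GL ι F) : Matrix ι ι F) *ᵥ u = u := by
    intro x hx
    have h1 : (U : Subgroup P) ≤ H637.JW.stab (rep P F) u := hUK _ (by
      rw [H637.JW.mem_stab, ← hop]; exact hu.e₁) (by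
      rw [H637.JW.mem_stab, ← hop]; exact hu.e₂)
    have h2 := h1 hx
    rw [H637.JW.mem_stab, rep_self] at h2
    exact h2
  have hl := H882.Del.lines_of_sylow (H := H) U hUfix (fun w hw => huniq w (by
    rw [rep_self]; exact hw _ hU0) (by rw [rep_self]; exact hw _ hU1)) c.res.normal
  have hHroot : ∀ h ∈ H, ∀ x ∈ H882.Del.rts F (vv v (rep P F) u),
      (h : Matrix ι ι F) *ᵥ x ∈ H882.Del.rts F (vv v (rep P F) u) := by
    intro h hh x hx
    obtain ⟨w, rfl⟩ := hu.root_eq hL hsum hx
    have e1 : (h : Matrix ι ι F) *ᵥ (op v (rep P F) w u) =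
        ((h * ((ev v w : P) : GL ι F) : GL ι F) : Matrix ι ι F) *ᵥ u := by
      rw [H882.Del.mulVec_mul]
      congr 1
    obtain ⟨g, hg, d, hd⟩ := hl (h * ((ev v w : P) : GL ι F)) (mul_mem hh (c.res.le (ev v w).2))
    rw [e1, hd]
    have e2 : (g : Matrix ι ι F) *ᵥ u = rep P F ⟨g, hg⟩ u := (rep_self (P := P) ⟨g, hg⟩ u).symm
    rw [e2]
    refine H882.Del.rts_smul (hroot _) ?_
    have e3 : Q (((h * ((ev v w : P) : GL ι F) : GL ι F) : Matrix ι ι F) *ᵥ u) = Q u :=
      isometry_of_mem (c.max.1.le (mul_mem hh (c.res.le (ev v w).2))) u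
    rw [hd, e2, QuadraticMap.map_smul, hQ, smul_eq_mul] at e3
    have e4 : (d - 1) * (d + 1) = 0 := by
      apply mul_right_cancel₀ ha
      linear_combination e3
    rcases mul_eq_zero.1 e4 with h | h
    · left; linear_combination h
    · right; linear_combination h
  -- translation to linear equivalences
  let E0 := glEquiv ι F
  have hap : ∀ (g : GL ι F) (v : ι → F), E0 g v = (g : Matrix ι ι F) *ᵥ v := fun g v => glEquiv_apply g v
  let P' : Subgroup ((ι → F) ≃ₗ[F] (ι → F)) := P.map E0.toMonoidHom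
  let H' : Subgroup ((ι → F) ≃ₗ[F] (ι → F)) := H.map E0.toMonoidHom
  have hH' : IsMaximalIn (E Q) H' := by
    have h := (Cfsg.Agent.H883.Bridge.isMaximalIn_map_iff E0 (omegaGL (Q : (ι → F) → F)) H).2 c.max
    rwa [Cfsg.Agent.H883.Bridge.map_omegaGL_eq_E hG] at h
  have hfP' : Finite P' := Finite.of_equiv _ (E0.subgroupMap P).toEquiv
  have hcP : Nat.card P' = 7920 := by
    rw [← hcard]
    exact (Nat.card_congr (E0.subgroupMap P).toEquiv).symm
  have hcA : Nat.card P' < Nat.card (alternatingGroup (Fin 10)) := by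
    rw [hcP]
    have h3 := two_mul_nat_card_alternatingGroup (α := Fin 10)
    rw [Nat.card_perm, Nat.card_eq_fintype_card (α := Fin 10), Fintype.card_fin] at h3
    have : Nat.factorial 10 = 3628800 := by decide
    omega
  refine kill_roots hS hgr c.two hG h3 (by decide) hH' ?_ ?_ hcA (g := E0 (v 0 : P)) ⟨_, (v 0).2, rfl⟩ ?_ ?_
  · rintro _ ⟨h, hh, rfl⟩
    refine H882.Del.mem_stabR_of (E_le_O (hH'.1.le ⟨h, hh, rfl⟩)) ?_ ?_
    · intro x hx
      show E0 h x ∈ _
      rw [hap]
      exact hHroot h hh x hx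
    · intro x hx
      have e1 : (E0.toMonoidHom h)⁻¹ = E0 h⁻¹ := (map_inv E0 h).symm
      rw [e1, hap]
      exact hHroot _ (inv_mem hh) x hx
  · rintro _ ⟨h, hh, rfl⟩ _ ⟨x, hx, rfl⟩
    refine ⟨h * x * h⁻¹, c.res.normal h hh x hx, ?_⟩
    simp
  · intro h1
    apply hv0
    apply Subtype.ext
    exact E0.injective (h1.trans (map_one E0).symm)
  · refine ⟨σe, σe_even, ?_⟩
    refine hS.ext' fun i => ?_
    rw [hS.perm_apply, hap, ← rep_self, ← hop]
    show wv v (rep P F) u ((σe i).1 + 1) = op v (rep P F) [0] (wv v (rep P F) u (i.1 + 1))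
    rw [hu.e_w hL (by omega), ep_σe]

/-! ### the rows -/

theorem v11_five_ne : v11 5 ≠ 1 := by
  intro h
  have h1 := orders_11.2.2.2
  rw [ev_cons, ev_nil, mul_one, h, orderOf_one] at h1
  omega

/-- `M₁₁` in dimension at most 9: `p = 11` -/
theorem m11_eleven [Finite F] (p : ℕ) [Fact p.Prime] [CharP F p] (hC : Core P) (hsd : SD P)
    (hn : Fintype.card ι ≤ 9) (hM : Spor.IsoM11 (Soc P)) : p = 11 := by
  obtain ⟨e, -⟩ := exists_letters hC hM
  refine dvd_eleven p (v := fun i => e.symm (v11 i)) (sat_11.map e.symm.toMonoidHom) ?_ hsd hn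
  intro h0
  apply v11_five_ne
  have := congrArg e h0
  rwa [MulEquiv.apply_symm_apply, map_one] at this

/-- `M₁₂` in dimension 9: never (real traces, no scalars) -/
theorem m12_nine [Finite F] (p : ℕ) [hp : Fact p.Prime] [CharP F p] (hbot : (scalars ι F).subgroupOf P = ⊥)
    (hsd : SD P) (hn : Fintype.card ι = 9) (hM : Spor.IsoM12 (Soc P)) : False := by
  obtain ⟨e0⟩ := hM
  let e : P ≃* Spor.M12 := (H879.TL.socEquiv hbot).trans e0
  let v : ℕ → P := fun i => e.symm (vM i)
  have hv : Sat v := sat_M.map e.symm.toMonoidHom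
  have hL : Cert v certA := certA_M.map e.symm.toMonoidHom
  have hB : Cert v certB := certB_M.map e.symm.toMonoidHom
  have hne : ∀ i, vM i ≠ 1 → v i ≠ 1 := by
    intro i hi h0
    apply hi
    have := congrArg e h0
    rwa [MulEquiv.apply_symm_apply, map_one] at this
  obtain rfl : p = 11 := dvd_eleven p hv (hne 5 vM_five_ne) hsd (by omega)
  have hck : CharP (AlgebraicClosure F) 11 := charP_of_injective_algebraMap (algebraMap F _).injective 11
  obtain ⟨ω, hω⟩ := exists_root (AlgebraicClosure F) 3 (cast_ne _ hp.out Nat.prime_three (by norm_num))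
  refine no_twelve (R := rep P (AlgebraicClosure F)) hv hL hB hω ?_ (by
    rw [Module.finrank_fintype_fun_eq_card, hn])
  intro h
  have h1 := rep_eq_one _ h
  rw [ev_cons, ev_nil, mul_one] at h1
  exact hne 0 vM_zero_ne h1

end Cfsg.Agent.H879.Nine.ME
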