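import Cfsg.Agent.H879.Nine.Ctx
import Cfsg.Agent.H614.AMod.Main
import Cfsg.Agent.H882.Del.Syl

/-!
# The alternating groups of degree at least 8 in `Ω₉(q)` (helper879)

`alt_row` : `A₁₀` over the prime field, `p ≠ 5, 11`, or `A₁₁`, `|F| = 11`.
-/

set_option autoImplicit false
set_option linter.unusedSectionVars false

namespace Cfsg.Agent.H879.Nine

open Matrix Equiv Equiv.Perm Cfsg Cfsg.Geo Cfsg.Agent.H915.LD Cfsg.Agent.LieClassical.OrthCore
open Cfsg.Agent.H882.Del Cfsg.Agent.H964.AltMod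

universe u

/-- a cycle of length 9 -/
def c9 : Perm (Fin 10) where
  toFun i := ![1, 2, 3, 4, 5, 6, 7, 8, 0, 9] i
  invFun i := ![8, 0, 1, 2, 3, 4, 5, 6, 7, 9] i
  left_inv := by decide
  right_inv := by decide

theorem c9_pow : c9 ^ 9 = 1 := by decide

theorem c9_even : c9 ∈ alternatingGroup (Fin 10) := by
  rw [mem_alternatingGroup]
  have h := congrArg sign c9_pow
  rw [map_pow, map_one] at h
  rcases Int.units_eq_one_or (sign c9) with h1 | h1
  · exact h1
  · rw [h1] at h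
    exact absurd h (by decide)

theorem c9_orbit (j : Fin 10) (hj : j ≠ 9) : ∃ n : ℕ, (c9 ^ n) 0 = j := by
  have h : ∀ j : Fin 10, j ≠ 9 → ∃ n : Fin 9, (c9 ^ (n : ℕ)) 0 = j := by decide
  obtain ⟨n, hn⟩ := h j hj
  exact ⟨n, hn⟩

/-- a 3-group of permutations containing the 9-cycle fixes the last point -/
theorem fix_last (S : Subgroup (Perm (Fin 10))) (hS : IsPGroup 3 S) (hc : c9 ∈ S) {g : Perm (Fin 10)} (hg : g ∈ S) :
    g 9 = 9 := by
  have h3 : Fact (Nat.Prime 3) := ⟨Nat.prime_three⟩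
  by_contra h
  have horb : ∀ j : Fin 10, j ≠ 9 → j ∈ MulAction.orbit S (0 : Fin 10) := by
    intro j hj
    obtain ⟨n, hn⟩ := c9_orbit j hj
    exact ⟨⟨c9 ^ n, pow_mem hc n⟩, hn⟩
  have hall : ∀ j : Fin 10, j ∈ MulAction.orbit S (0 : Fin 10) := by
    intro j
    by_cases hj : j = 9
    · subst hj
      have h1 := horb (g 9) h
      rw [MulAction.mem_orbit_symm] at h1 ⊢
      obtain ⟨⟨k, hk⟩, hk2⟩ := h1
      refine ⟨⟨k * g, mul_mem hk hg⟩, ?_⟩
      exact hk2
    · exact horb j hj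
  obtain ⟨n, hn⟩ := hS.card_orbit (0 : Fin 10)
  have h10 : Nat.card (MulAction.orbit S (0 : Fin 10)) = 10 := by
    have : MulAction.orbit S (0 : Fin 10) = Set.univ := Set.eq_univ_of_forall hall
    rw [this, Nat.card_congr (Equiv.Set.univ _), Nat.card_eq_fintype_card, Fintype.card_fin]
  rw [h10] at hn
  rcases Nat.lt_or_ge n 3 with h1 | h1
  · interval_cases n <;> omega
  · have : 3 ^ 3 ≤ 3 ^ n := Nat.pow_le_pow_right (by norm_num) h1
    omega

section

variable {ι : Type} [Fintype ι] [DecidableEq ι] {F : Type u} [Field F] [Fintype F] {p : ℕ}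
  {Q : QuadraticForm F (ι → F)} {H P : Subgroup (GL ι F)}

/-- `A₁₀`, `p = 11` -/
theorem a10_eleven (c : Ctx 11 Q H P) (φ : P ≃* alternatingGroup (Fin 10)) {w : Fin 10 → Fin 10 → (ι → F)}
    (N : NatM (H964.AltMod.rep φ) w) : False := by
  have hp := Fact.mk c.prime
  have hch := c.charP
  have h3f : Fact (Nat.Prime 3) := ⟨Nat.prime_three⟩
  have hnat : ∀ {a : ℕ}, a < 11 → a ≠ 0 → (a : F) ≠ 0 := by
    intro a ha h0 h
    rw [CharP.cast_eq_zero_iff F 11] at h
    exact h0 (Nat.eq_zero_of_dvd_of_lt h ha)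
  have h3 : (3 : F) ≠ 0 := by exact_mod_cast hnat (a := 3) (by norm_num) (by norm_num)
  have h10 : (Fintype.card (Fin 10) : F) ≠ 0 := by
    rw [Fintype.card_fin]
    exact hnat (by norm_num) (by norm_num)
  have hS : Sys F (NatM.vec w) := N.sys_of_ne (by decide) h10
  set v := NatM.vec w with hv
  have hact : ∀ (g : P) (i : Fin 10), ((g : GL ι F) : Matrix ι ι F) *ᵥ v i = v (((φ g : alternatingGroup (Fin 10)) : Perm (Fin 10)) i) := by
    intro g i
    rw [← H964.AltMod.rep_apply' φ]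
    exact N.act_vec (φ g) i
  -- the point stabiliser
  let K : Subgroup P := (MulAction.stabilizer (alternatingGroup (Fin 10)) (9 : Fin 10)).comap φ.toMonoidHom
  have hK : ∀ g : P, g ∈ K ↔ (φ g : alternatingGroup (Fin 10)) • (9 : Fin 10) = 9 := fun g => Iff.rfl
  have hKi : K.index = Fintype.card ι + 1 := by
    rw [c.nine]
    have h1 : K.index = (MulAction.stabilizer (alternatingGroup (Fin 10)) (9 : Fin 10)).index :=
      Subgroup.index_comap_of_surjective _ φ.surjective
    rw [h1, MulAction.index_stabilizer]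
    have h2 : MulAction.orbit (alternatingGroup (Fin 10)) (9 : Fin 10) = Set.univ := by
      apply Set.eq_univ_of_forall
      intro j
      obtain ⟨i', hi'⟩ : ∃ i : Fin 10, i ≠ 9 := ⟨0, by decide⟩
      obtain ⟨j', hj'⟩ : ∃ i : Fin 10, j ≠ i := ⟨if j = 0 then 1 else 0, by split_ifs with h <;> simp [h]⟩
      obtain ⟨g, hg, -⟩ := exists_g (α := Fin 10) (by decide) hi'.symm hj'
      exact ⟨g, hg⟩
    rw [h2, Set.ncard_univ, Nat.card_eq_fintype_card, Fintype.card_fin]
  have hfix : ∀ k ∈ K, ((k : GL ι F) : Matrix ι ι F) *ᵥ v 9 = v 9 := by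
    intro k hk
    rw [hact]
    exact congrArg v ((hK k).1 hk)
  have hdc : ∀ g ∉ K, ∀ g' ∉ K, ∃ k ∈ K, ∃ k' ∈ K, g' = k * g * k' := by
    intro g hg g' hg'
    rw [hK] at hg hg'
    obtain ⟨k, hk1, hk2⟩ := exists_g (α := Fin 10) (by decide) (Ne.symm hg) (Ne.symm hg')
    refine ⟨φ.symm k, ?_, (φ.symm k * g)⁻¹ * g', ?_, by group⟩
    · rw [hK, φ.apply_symm_apply]; exact hk1
    · rw [hK, map_mul, map_inv, map_mul, φ.apply_symm_apply, mul_smul, inv_smul_eq_iff, mul_smul]
      exact hk2.symm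
  -- a Sylow 3-subgroup
  let x : P := φ.symm ⟨c9, c9_even⟩
  have hx9 : x ^ 9 = 1 := by
    apply φ.injective
    rw [map_pow, φ.apply_symm_apply, map_one]
    exact Subtype.ext c9_pow
  have hzp : IsPGroup 3 (Subgroup.zpowers x) := by
    rintro ⟨_, n, rfl⟩
    refine ⟨2, Subtype.ext ?_⟩
    show ((x ^ n) ^ (3 ^ 2) : P) = 1
    rw [← zpow_natCast, ← _root_.zpow_mul, mul_comm, _root_.zpow_mul, zpow_natCast, show (3 : ℕ) ^ 2 = 9 by norm_num,
      hx9, _root_.one_zpow]
  obtain ⟨U, hU⟩ := hzp.exists_le_sylow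
  have hxU : x ∈ U := hU (Subgroup.mem_zpowers x)
  let ψ : P →* Perm (Fin 10) := (alternatingGroup (Fin 10)).subtype.comp φ.toMonoidHom
  have hψx : ψ x = c9 := by
    show ((φ (φ.symm ⟨c9, c9_even⟩) : alternatingGroup (Fin 10)) : Perm (Fin 10)) = c9
    rw [φ.apply_symm_apply]
  have hUfix : ∀ u ∈ U, ((u : GL ι F) : Matrix ι ι F) *ᵥ v 9 = v 9 := by
    intro u hu
    rw [hact]
    exact congrArg v (fix_last ((U : Subgroup P).map ψ) (U.2.map ψ) (hψx ▸ ⟨x, hxU, rfl⟩) ⟨u, hu, rfl⟩)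
  have huniq : ∀ y : ι → F, (∀ u ∈ U, ((u : GL ι F) : Matrix ι ι F) *ᵥ y = y) → ∃ d : F, y = d • v 9 := by
    intro y hy
    have hyx := hy x hxU
    have hspan : y ∈ Submodule.span F (Set.range v) := by rw [hS.span]; trivial
    obtain ⟨a, ha⟩ := (Submodule.mem_span_range_iff_exists_fun F).1 hspan
    have hmv : ∀ b : Fin 10 → F, ((x : GL ι F) : Matrix ι ι F) *ᵥ (∑ i, b i • v i) = ∑ i, b (c9⁻¹ i) • v i := by
      intro b
      rw [← Matrix.mulVecLin_apply, map_sum, ← Equiv.sum_comp c9 (fun i => b (c9⁻¹ i) • v i)]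
      refine Finset.sum_congr rfl fun i _ => ?_
      rw [map_smul, Matrix.mulVecLin_apply, hact]
      have e1 : c9⁻¹ (c9 i) = i := c9.symm_apply_apply i
      rw [e1]
      congr 1
      show v (ψ x i) = v (c9 i)
      rw [hψx]
    have h1 : ∑ i, (a (c9⁻¹ i) - a i) • v i = 0 := by
      simp only [sub_smul, Finset.sum_sub_distrib]
      rw [← hmv a, ha, hyx, sub_self]
    have h2 := hS.rel h1
    have h3 : ∀ i, a (c9⁻¹ i) = a i := by
      intro i
      have := h2 i 9
      have e9 : c9⁻¹ (9 : Fin 10) = 9 := by decide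
      rw [e9, sub_self] at this
      exact sub_eq_zero.1 this
    have h4 : ∀ n : ℕ, a ((c9 ^ n) 0) = a 0 := by
      intro n
      induction n with
      | zero => rfl
      | succ n ih =>
        rw [← ih, ← h3 ((c9 ^ (n + 1)) 0), pow_succ']
        congr 1
        exact c9.symm_apply_apply _
    have h5 : ∀ i : Fin 10, i ≠ 9 → a i = a 0 := by
      intro i hi
      obtain ⟨n, hn⟩ := c9_orbit i hi
      rw [← hn, h4]
    refine ⟨a 9 - a 0, ?_⟩
    have h6 : ∑ i, a i • v i = ∑ i, a 0 • v i + (a 9 - a 0) • v 9 := by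
      have h7 : ∀ i, a i • v i = a 0 • v i + (if i = 9 then (a 9 - a 0) • v 9 else 0) := by
        intro i
        split_ifs with hi
        · subst hi
          rw [← add_smul, add_sub_cancel]
        · rw [h5 i hi, add_zero]
      rw [Finset.sum_congr rfl fun i _ => h7 i, Finset.sum_add_distrib, Finset.sum_ite_eq' Finset.univ (9 : Fin 10),
        if_pos (Finset.mem_univ _)]
    rw [← ha, h6, ← Finset.smul_sum, hS.sum, smul_zero, zero_add]
  have hl := lines_of_sylow (H := H) U hUfix huniq c.res.normal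
  obtain ⟨-, -, h⟩ := mat_main c.two c.nd (by rw [c.nine]; norm_num) c.max c.res hKi (hS.ne_zero 9) hfix hdc hl (m := 10)
    (by rw [c.nine])
  apply h h3
  have : ((11 : ℕ) : F) = 0 := CharP.cast_eq_zero F 11
  rw [← this]
  norm_num

/-- **The alternating groups of degree at least 8.** -/
theorem alt_row (c : Ctx p Q H P) {m : ℕ} (hm : 8 ≤ m) (e : Soc P ≃* alternatingGroup (Fin m)) :
    (m = 10 ∧ Fintype.card F = p ∧ p ≠ 5 ∧ p ≠ 11) ∨ (m = 11 ∧ Fintype.card F = 11) := by
  have hp := Fact.mk c.prime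
  have hch := c.charP
  have h9 := c.nine
  rcases H614.AMod.Main.alt_cases c.core p e hm (by omega) (fun h => c.ne_two h.2) with h | h | h
  · have hcard := c.core.card_eq p (h.fr c.core hm p)
    rcases h.dim c.core hm p with ⟨h1, h2⟩ | ⟨h1, h2⟩
    · left
      obtain rfl : m = 10 := by omega
      refine ⟨rfl, hcard, ?_, ?_⟩
      · rintro rfl
        exact h1 (by norm_num)
      · rintro rfl
        obtain ⟨φ, -, w, hw⟩ := h.nat
        exact a10_eleven c φ hw
    · right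
      obtain rfl : m = 11 := by omega
      have h3 : p = 11 := (Nat.prime_dvd_prime_iff_eq c.prime (by norm_num)).1 h1
      exact ⟨rfl, by rw [hcard, h3]⟩
  · have := h.n8
    omega
  · omega

end

end Cfsg.Agent.H879.Nine
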